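import Groth.Agent.Lam38.Scalar

/-!
The γ-filtration of an augmented special λ-algebra.
-/

set_option autoImplicit false

universe u v

namespace Groth.Agent.Lam38

open Finset LambdaRing
open MvPolynomial (X constantCoeff)

section Gen

variable {A : Type v} [CommRing A] [LambdaOps A]

theorem gamma_zero_succ (n : ℕ) : gamma (n + 1) (0 : A) = 0 := by
  rw [← Lambda37.coeff_gammaSeries, Lambda37.gammaSeries_zero, PowerSeries.coeff_one,
    if_neg (Nat.succ_ne_zero n)]

theorem gamma_neg_succ (x : A) (n : ℕ) : gamma (n + 1) (-x) =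
    -∑ i ∈ range (n + 1), gamma (i + 1) x * gamma (n - i) (-x) := by
  have h := Lambda37.gamma_add' (n + 1) x (-x)
  rw [add_neg_cancel, gamma_zero_succ, Finset.sum_range_succ', Lambda37.gamma_zero, one_mul,
    Nat.sub_zero] at h
  rw [eq_neg_iff_add_eq_zero, add_comm]
  simpa using h.symm

/-- All `γ^j y` lie in `T j`. -/
def Good (T : ℕ → Ideal A) (y : A) : Prop := ∀ j, gamma j y ∈ T j

variable {T : ℕ → Ideal A} (hT : Mult T)
include hT

theorem Good.zero : Good T (0 : A) := fun j => by
  rcases j with _ | j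
  · exact hT.mem_zero _
  · rw [gamma_zero_succ]; exact zero_mem _

theorem Good.add {a b : A} (ha : Good T a) (hb : Good T b) : Good T (a + b) := fun j => by
  rw [Lambda37.gamma_add']
  refine Ideal.sum_mem _ fun i hi => ?_
  have := hT.mul (ha i) (hb (j - i))
  rwa [Nat.add_sub_cancel' (Nat.lt_succ_iff.mp (Finset.mem_range.mp hi))] at this

theorem Good.neg {a : A} (ha : Good T a) : Good T (-a) := by
  intro j
  induction j using Nat.strong_induction_on with
  | _ j ih =>
    rcases j with _ | n
    · exact hT.mem_zero _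
    · rw [gamma_neg_succ]
      refine Submodule.neg_mem _ (Ideal.sum_mem _ fun i hi => ?_)
      have hi' := Finset.mem_range.mp hi
      have := hT.mul (ha (i + 1)) (ih (n - i) (by omega))
      rwa [show i + 1 + (n - i) = n + 1 by omega] at this

/-- Universal polynomials without constant term give good elements. -/
theorem Good.of_universal (hA : IsSpecial A) {ι : Type} (x : ι → A) (hx : ∀ s, Good T (x s))
    (p : MvPolynomial (Var (fun _ : ι => (⊤ : ℕ∞))) ℤ) (hp : constantCoeff p = 0) :
    Good T (ev _ x p) := fun j => by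
  rw [← ev_gamma hA x (fun s k h => absurd (ENat.natCast_lt_top k) h)]
  exact ev_mem hT x (fun v => hx v.s (v.j + 1)) (gammaZ_mem hp j)

theorem Good.mul (hA : IsSpecial A) {a b : A} (ha : Good T a) (hb : Good T b) : Good T (a * b) := by
  let x : Bool → A := fun t => if t then a else b
  have hx : ∀ t, Good T (x t) := fun t => by cases t <;> simpa [x] using by assumption
  have := Good.of_universal hT hA x hx
    (gen _ ℤ true * gen _ ℤ false) (by
      rw [map_mul, gen, c_var ℤ (D := fun _ : Bool => (⊤ : ℕ∞)) ⟨true, 0, ENat.natCast_lt_top 0⟩,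
        MvPolynomial.constantCoeff_X, zero_mul])
  rw [map_mul, gen, gen, ev_c x (fun s k h => absurd (ENat.natCast_lt_top k) h),
    ev_c x (fun s k h => absurd (ENat.natCast_lt_top k) h), Lambda37.gamma_one, Lambda37.gamma_one] at this
  simpa [x] using this

theorem Good.gamma (hA : IsSpecial A) {a : A} (ha : Good T a) (n : ℕ) :
    Good T (gamma (n + 1) a) := by
  have := Good.of_universal hT hA (fun _ : Unit => a) (fun _ => ha)
    (X ⟨(), n, ENat.natCast_lt_top n⟩) (MvPolynomial.constantCoeff_X _ _)
  rw [ev, MvPolynomial.aeval_X] at this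
  exact this

end Gen

section Aug

variable {K : Type u} [CommRing K] [LambdaOps K]
variable {A : Type v} [CommRing A] [LambdaOps A] [Algebra K A]
variable {ε : A →ₐ[K] K}

theorem map_gamma_aug (hε : IsAugLambdaAlg K A ε) (n : ℕ) (x : A) : ε (gamma n x) = gamma n (ε x) :=
  map_gamma' (ε : A →+* K) (fun i y => hε.map_lam i y) n x

omit [LambdaOps K] [LambdaOps A] in
theorem aug_sub (a : A) : ε (a - algebraMap K A (ε a)) = 0 := by simp

variable (ε) in
theorem fil_mult : Mult (gammaFil (ε : A →+* K)) where
  zero := eq_top_iff.mpr fun x _ => by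
    have : (1 : A) ∈ gammaFil (ε : A →+* K) 0 :=
      Ideal.subset_span ⟨[], by simp, by simp, by simp⟩
    simpa using Ideal.mul_mem_left _ x this
  anti := fun hab => Ideal.span_mono fun y ⟨l, h1, h2, h3⟩ => ⟨l, h1, hab.trans h2, h3⟩
  mul := fun {a b x y} hx hy => by
    have := Ideal.mul_mem_mul hx hy
    rw [gammaFil, gammaFil, Ideal.span_mul_span'] at this
    refine Ideal.span_mono ?_ this
    rintro _ ⟨u, ⟨l, h1, h2, rfl⟩, w, ⟨l', h1', h2', rfl⟩, rfl⟩
    refine ⟨l ++ l', fun p hp => (List.mem_append.mp hp).elim (h1 p) (h1' p), ?_, ?_⟩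
    · rw [List.map_append, List.sum_append]; omega
    · simp [List.map_append, List.prod_append]

theorem gamma_mem_fil {x : A} (hx : ε x = 0) (j : ℕ) : gamma j x ∈ gammaFil (ε : A →+* K) j :=
  Ideal.subset_span ⟨[(j, x)], by simpa using hx, by simp, by simp⟩

theorem good_fil {x : A} (hx : ε x = 0) : Good (gammaFil (ε : A →+* K)) x := gamma_mem_fil hx

/-- If all augmentation zero elements are good for `T`, then `T` contains the filtration. -/
theorem fil_le {T : ℕ → Ideal A} (hT : Mult T) (h : ∀ x : A, ε x = 0 → Good T x) (k : ℕ) :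
    gammaFil (ε : A →+* K) k ≤ T k := by
  refine Ideal.span_le.mpr ?_
  rintro _ ⟨l, h1, h2, rfl⟩
  refine hT.anti h2 ?_
  clear h2
  induction l with
  | nil => exact hT.mem_zero _
  | cons p l ih =>
    simp only [List.map_cons, List.prod_cons, List.sum_cons]
    exact hT.mul (h p.2 (h1 p (List.mem_cons_self ..)) p.1) (ih fun q hq => h1 q (List.mem_cons_of_mem _ hq))

variable [BinomialRing K]

theorem good_smul (hKb : IsBinomial K) (hA : IsSpecial A) (hL : IsLambdaAlg K A) {T : ℕ → Ideal A}
    (hT : Mult T) (c₀ : K) {y : A} (h : Good T y) : Good T (algebraMap K A c₀ * y) :=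
  gamma_smul_mem hKb hA hL hT c₀ fun j _ => h j

variable (ε) in
/-- The subalgebra of the `b` with `b - ε b` good. -/
def goodAlg (hKb : IsBinomial K) (hA : IsSpecial A) (hL : IsLambdaAlg K A) {T : ℕ → Ideal A}
    (hT : Mult T) : Subalgebra K A where
  carrier := {b | Good T (b - algebraMap K A (ε b))}
  add_mem' := fun {a b} ha hb => by
    show Good T _
    rw [map_add, map_add, add_sub_add_comm]
    exact Good.add hT ha hb
  mul_mem' := fun {a b} ha hb => by
    show Good T _
    have e : a * b - algebraMap K A (ε (a * b)) =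
        (a - algebraMap K A (ε a)) * (b - algebraMap K A (ε b)) +
          (algebraMap K A (ε a) * (b - algebraMap K A (ε b)) +
            algebraMap K A (ε b) * (a - algebraMap K A (ε a))) := by
      rw [map_mul, map_mul]; ring
    rw [e]
    exact Good.add hT (Good.mul hT hA ha hb)
      (Good.add hT (good_smul hKb hA hL hT _ hb) (good_smul hKb hA hL hT _ ha))
  algebraMap_mem' := fun c₀ => by
    show Good T _
    rw [AlgHom.commutes, Algebra.algebraMap_self, RingHom.id_apply, sub_self]
    exact Good.zero hT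

theorem good_of_aug (hKb : IsBinomial K) (hA : IsSpecial A) (hL : IsLambdaAlg K A) {T : ℕ → Ideal A}
    (hT : Mult T) (h : goodAlg ε hKb hA hL hT = ⊤) {x : A} (hx : ε x = 0) : Good T x := by
  have hm : x ∈ goodAlg ε hKb hA hL hT := by rw [h]; trivial
  have : Good T (x - algebraMap K A (ε x)) := hm
  rwa [hx, map_zero, sub_zero] at this

end Aug

section Virtual

open PowerSeries

variable {A : Type v} [CommRing A] [LambdaOps A]

omit [LambdaOps A] in
theorem coeff_one_sub_X_pow (m k : ℕ) :
    PowerSeries.coeff k ((1 - PowerSeries.X : A⟦X⟧) ^ m) = (-1) ^ k * (m.choose k : A) := by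
  have : (1 - PowerSeries.X : A⟦X⟧) ^ m = rescale (-1 : A) ((1 + PowerSeries.X) ^ m) := by
    rw [map_pow, map_add, map_one, rescale_X, map_neg, map_one, neg_one_mul, sub_eq_add_neg]
  rw [this, coeff_rescale, Lambda37.coeff_one_add_X_pow]

/-- An element of rank `d` minus `d`. -/
theorem gamma_sub_rank (h1 : ∀ k : ℕ, 2 ≤ k → LambdaOps.lam k (1 : A) = 0) (d : ℕ) (N : A)
    (hN : ∀ i, d < i → LambdaOps.lam i N = 0) :
    (∀ n, d < n → gamma n (N - (d : A)) = 0) ∧
      gamma d (N - (d : A)) = (-1) ^ d * ∑ j ∈ range (d + 1), (-1) ^ j * LambdaOps.lam j N := by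
  have hd : Lambda37.gammaSeries (d : A) = PowerSeries.mk 1 ^ d := by
    rw [Lambda37.gammaSeries_eq_subst, Lambda37.lamSeries_natCast h1, subst_pow Lambda37.hasSubst_gT,
      subst_add Lambda37.hasSubst_gT, subst_X Lambda37.hasSubst_gT,
      ← coe_substAlgHom Lambda37.hasSubst_gT, map_one, Lambda37.one_add_gT]
  have hN' : Lambda37.gammaSeries N =
      ∑ j ∈ range (d + 1), PowerSeries.C (LambdaOps.lam j N) * Lambda37.gT A ^ j := by
    ext k
    rw [Lambda37.gammaSeries_eq_subst, coeff_subst' Lambda37.hasSubst_gT, map_sum,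
      finsum_eq_sum_of_support_subset _ (s := range (d + 1)) ?_]
    · refine Finset.sum_congr rfl fun j _ => ?_
      rw [coeff_C_mul, Lambda37.coeff_lamSeries, smul_eq_mul]
    · intro j hj
      rw [Function.mem_support] at hj
      by_contra hcon
      rw [Finset.coe_range, Set.mem_Iio] at hcon
      exact hj (by rw [Lambda37.coeff_lamSeries, hN j (by omega), zero_smul])
  have key : Lambda37.gammaSeries (N - (d : A)) = ∑ j ∈ range (d + 1),
      PowerSeries.C (LambdaOps.lam j N) * (PowerSeries.X ^ j * (1 - PowerSeries.X) ^ (d - j)) := by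
    have hadd := Lambda37.gammaSeries_add (N - (d : A)) (d : A)
    rw [sub_add_cancel, hd] at hadd
    have h' : Lambda37.gammaSeries (N - (d : A)) = Lambda37.gammaSeries N * (1 - PowerSeries.X) ^ d := by
      rw [hadd, mul_assoc, ← mul_pow, mk_one_mul_one_sub_eq_one, one_pow, mul_one]
    rw [h', hN', Finset.sum_mul]
    refine Finset.sum_congr rfl fun j hj => ?_
    have hj' := Finset.mem_range.mp hj
    rw [mul_assoc, Lambda37.gT, mul_pow, mul_assoc]
    congr 2
    conv_lhs => rw [show d = j + (d - j) by omega, pow_add, ← mul_assoc, ← mul_pow,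
      mk_one_mul_one_sub_eq_one, one_pow, one_mul]
  refine ⟨fun n hn => ?_, ?_⟩
  · rw [← Lambda37.coeff_gammaSeries, key, map_sum]
    refine Finset.sum_eq_zero fun j hj => ?_
    have hj' := Finset.mem_range.mp hj
    rw [coeff_C_mul, coeff_X_pow_mul', if_pos (by omega), coeff_one_sub_X_pow,
      Nat.choose_eq_zero_of_lt (by omega)]
    simp
  · rw [← Lambda37.coeff_gammaSeries, key, map_sum, Finset.mul_sum]
    refine Finset.sum_congr rfl fun j hj => ?_
    have hj' := Finset.mem_range.mp hj
    rw [coeff_C_mul, coeff_X_pow_mul', if_pos (by omega), coeff_one_sub_X_pow, Nat.choose_self,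
      Nat.cast_one, mul_one, ← mul_assoc, ← pow_add,
      show d + j = (d - j) + 2 * j by omega, pow_add, pow_mul, neg_one_sq, one_pow, mul_one]
    ring

end Virtual

end Groth.Agent.Lam38
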