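import Groth.Prelude.Def_LambdaSp
import Groth.Agent.Lambda37.Basic
import Mathlib.Algebra.Group.ForwardDiff
import Mathlib.RingTheory.Polynomial.Pochhammer
import Mathlib.RingTheory.PowerSeries.Substitution
import Mathlib.Algebra.Algebra.Rat

/-!
Ghost components of a sequence `a` with `a 0 = 1`, and the binomial transform relating the ghost
components of a `λ`-sequence to those of the associated `γ`-sequence.
-/

set_option autoImplicit false

namespace Groth.Agent.Lam38

open PowerSeries Finset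

section Basic

variable {R : Type*} [CommRing R]

noncomputable def logD (f : R⟦X⟧) : R⟦X⟧ := derivative R f * f.invOfUnit 1

noncomputable def g (a : ℕ → R) : ℕ → R
  | 0 => 0
  | k + 1 => (-1) ^ k * coeff k (logD (mk a))

theorem g_zero (a : ℕ → R) : g a 0 = 0 := rfl

theorem g_succ (a : ℕ → R) (k : ℕ) : g a (k + 1) = (-1) ^ k * coeff k (logD (mk a)) := rfl

theorem adamsOp_eq {K : Type*} [CommRing K] [LambdaRing.LambdaOps K] (k : ℕ) (x : K) :
    LambdaRing.adamsOp k x = g (fun n => LambdaRing.LambdaOps.lam n x) k := by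
  cases k <;> rfl

theorem cc_mk {a : ℕ → R} (h : a 0 = 1) : constantCoeff (mk a) = 1 := by
  rw [← coeff_zero_eq_constantCoeff_apply, coeff_mk, h]

theorem inv_eq_of_mul {f u : R⟦X⟧} (hf : constantCoeff f = 1) (h : f * u = 1) :
    f.invOfUnit 1 = u := by
  have h1 : f * f.invOfUnit 1 = 1 := mul_invOfUnit f 1 (by simpa using hf)
  calc f.invOfUnit 1 = f.invOfUnit 1 * (f * u) := by rw [h, mul_one]
    _ = (f * f.invOfUnit 1) * u := by ring
    _ = u := by rw [h1, one_mul]

theorem mul_inv1 {f : R⟦X⟧} (hf : constantCoeff f = 1) : f * f.invOfUnit 1 = 1 :=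
  mul_invOfUnit f 1 (by simpa using hf)

theorem logD_mul {f h : R⟦X⟧} (hf : constantCoeff f = 1) (hh : constantCoeff h = 1) :
    logD (f * h) = logD f + logD h := by
  have hinv : (f * h).invOfUnit 1 = f.invOfUnit 1 * h.invOfUnit 1 := by
    refine inv_eq_of_mul (by rw [map_mul, hf, hh, one_mul]) ?_
    calc f * h * (f.invOfUnit 1 * h.invOfUnit 1) = (f * f.invOfUnit 1) * (h * h.invOfUnit 1) := by ring
      _ = 1 := by rw [mul_inv1 hf, mul_inv1 hh, one_mul]
  rw [logD, logD, logD, hinv, Derivation.leibniz, smul_eq_mul, smul_eq_mul]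
  calc (f * derivative R h + h * derivative R f) * (f.invOfUnit 1 * h.invOfUnit 1)
      = derivative R h * h.invOfUnit 1 * (f * f.invOfUnit 1) +
          derivative R f * f.invOfUnit 1 * (h * h.invOfUnit 1) := by ring
    _ = _ := by rw [mul_inv1 hf, mul_inv1 hh]; ring

/-- Newton's identities: `(n+1) a_(n+1) = Σ (-1)^k g_(k+1) a_(n-k)`. -/
theorem g_rec {a : ℕ → R} (h : a 0 = 1) (n : ℕ) :
    ((n : R) + 1) * a (n + 1) = ∑ k ∈ range (n + 1), (-1) ^ k * g a (k + 1) * a (n - k) := by
  have h1 : logD (mk a) * mk a = derivative R (mk a) := by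
    rw [logD, mul_assoc, mul_comm _ (mk a), mul_inv1 (cc_mk h), mul_one]
  have h2 := congrArg (coeff n) h1
  rw [coeff_derivative, coeff_mk, coeff_mul, Finset.Nat.sum_antidiagonal_eq_sum_range_succ_mk] at h2
  rw [mul_comm, ← h2]
  refine Finset.sum_congr rfl fun k _ => ?_
  rw [coeff_mk, g_succ, ← mul_assoc ((-1) ^ k), ← mul_pow, neg_one_mul, neg_neg, one_pow, one_mul]

theorem g_eq {a : ℕ → R} (h : a 0 = 1) (n : ℕ) :
    g a (n + 1) = (-1) ^ n * (((n : R) + 1) * a (n + 1) -
      ∑ k ∈ range n, (-1) ^ k * g a (k + 1) * a (n - k)) := by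
  rw [g_rec h, Finset.sum_range_succ, Nat.sub_self, h, mul_one, add_sub_cancel_left, ← mul_assoc,
    ← mul_pow, neg_one_mul, neg_neg, one_pow, one_mul]

theorem g_unique {a : ℕ → R} (h : a 0 = 1) (G : ℕ → R) {N : ℕ}
    (hG : ∀ n < N, ((n : R) + 1) * a (n + 1) = ∑ k ∈ range (n + 1), (-1) ^ k * G (k + 1) * a (n - k)) :
    ∀ n < N, g a (n + 1) = G (n + 1) := by
  intro n
  induction n using Nat.strong_induction_on with
  | _ n ih =>
    intro hn
    have e : ∀ k ∈ range n, (-1) ^ k * g a (k + 1) * a (n - k) = (-1) ^ k * G (k + 1) * a (n - k) :=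
      fun k hk => by
        rw [ih k (Finset.mem_range.mp hk) (by have := Finset.mem_range.mp hk; omega)]
    rw [g_eq h, hG n hn, Finset.sum_range_succ, Nat.sub_self, h, mul_one, Finset.sum_congr rfl e,
      add_sub_cancel_left, ← mul_assoc, ← mul_pow, neg_one_mul, neg_neg, one_pow, one_mul]

theorem map_g {S F : Type*} [CommRing S] [FunLike F R S] [RingHomClass F R S] (φ : F) {a : ℕ → R}
    (h : a 0 = 1) (k : ℕ) : φ (g a k) = g (fun n => φ (a n)) k := by
  rcases k with _ | k
  · simp [g_zero]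
  · symm
    refine g_unique (a := fun n => φ (a n)) (by simp [h]) (fun n => φ (g a n)) (N := k + 1) ?_ k
      (Nat.lt_succ_self k)
    intro n _
    have := congrArg φ (g_rec h n)
    simpa using this

theorem g_congr {a b : ℕ → R} (ha : a 0 = 1) (hb : b 0 = 1) (n : ℕ)
    (hab : ∀ j, 1 ≤ j → j ≤ n → a j = b j) : g a n = g b n := by
  rcases n with _ | n
  · rfl
  have hab' : ∀ j ≤ n + 1, a j = b j := fun j hj => by
    rcases j with _ | j
    · rw [ha, hb]
    · exact hab _ (by omega) hj
  refine g_unique ha (g b) (N := n + 1) ?_ n (Nat.lt_succ_self n)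
  intro m hm
  rw [hab' _ (by omega), g_rec hb]
  refine Finset.sum_congr rfl fun k _ => ?_
  rw [hab' _ (by omega)]

/-- Product of the associated series. -/
def conv (a b : ℕ → R) (n : ℕ) : R := ∑ i ∈ range (n + 1), a i * b (n - i)

theorem mk_conv (a b : ℕ → R) : mk (conv a b) = mk a * mk b := by
  ext n
  rw [coeff_mk, coeff_mul, Finset.Nat.sum_antidiagonal_eq_sum_range_succ_mk]
  simp [conv]

theorem conv_zero {a b : ℕ → R} (ha : a 0 = 1) (hb : b 0 = 1) : conv a b 0 = 1 := by
  simp [conv, ha, hb]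

theorem g_conv {a b : ℕ → R} (ha : a 0 = 1) (hb : b 0 = 1) (k : ℕ) :
    g (conv a b) k = g a k + g b k := by
  rcases k with _ | k
  · simp [g_zero]
  · rw [g_succ, g_succ, g_succ, mk_conv, logD_mul (cc_mk ha) (cc_mk hb), map_add, mul_add]

theorem g_linear (a : R) (k : ℕ) :
    g (fun n => coeff n (1 + C a * X : R⟦X⟧)) (k + 1) = a ^ (k + 1) := by
  have hm : mk (fun n => coeff n (1 + C a * X : R⟦X⟧)) = 1 + C a * X := by ext n; simp
  have hc : constantCoeff (1 + C a * X : R⟦X⟧) = 1 := by simp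
  have hi : (1 + C a * X : R⟦X⟧).invOfUnit 1 = mk fun n => (-a) ^ n := by
    refine inv_eq_of_mul hc ?_
    ext n
    rw [add_mul, one_mul, map_add, coeff_mk, mul_assoc, coeff_C_mul]
    rcases n with _ | n
    · simp
    · rw [coeff_succ_X_mul, coeff_mk, coeff_one, if_neg (Nat.succ_ne_zero n), pow_succ']
      ring
  have hd : derivative R (1 + C a * X : R⟦X⟧) = C a := by
    rw [map_add, Derivation.map_one_eq_zero, Derivation.leibniz, derivative_C, derivative_X,
      smul_zero, smul_eq_mul, mul_one, zero_add, add_zero]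
  rw [g_succ, hm, logD, hi, hd, coeff_C_mul, coeff_mk, neg_pow a]
  calc (-1) ^ k * (a * ((-1) ^ k * a ^ k)) = ((-1) * (-1)) ^ k * a ^ (k + 1) := by rw [mul_pow]; ring
    _ = _ := by rw [neg_one_mul, neg_neg, one_pow, one_mul]

theorem g_one_seq (k : ℕ) : g (fun n => coeff n (1 : R⟦X⟧)) k = 0 := by
  rcases k with _ | k
  · rfl
  · have hm : mk (fun n => coeff n (1 : R⟦X⟧)) = 1 := by ext n; simp
    rw [g_succ, hm, logD, Derivation.map_one_eq_zero, zero_mul, map_zero, mul_zero]

theorem esymm_zero_eq (s : Multiset R) : s.esymm 0 = 1 := by simp [Multiset.esymm]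

theorem g_esymm (s : Multiset R) (k : ℕ) :
    g (fun n => s.esymm n) (k + 1) = (s.map fun a => a ^ (k + 1)).sum := by
  induction s using Multiset.induction with
  | empty =>
    have : (fun n => (0 : Multiset R).esymm n) = fun n => coeff n (1 : R⟦X⟧) := by
      funext n; rw [← Lambda37.coeff_mprod_linear]; simp
    rw [this, g_one_seq]; simp
  | cons a s ih =>
    have : (fun n => (a ::ₘ s).esymm n) =
        conv (fun n => coeff n (1 + C a * X : R⟦X⟧)) fun n => s.esymm n := by
      funext n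
      rw [← Lambda37.coeff_mprod_linear, Multiset.map_cons, Multiset.prod_cons, coeff_mul,
        Finset.Nat.sum_antidiagonal_eq_sum_range_succ_mk, conv]
      exact Finset.sum_congr rfl fun i _ => by rw [Lambda37.coeff_mprod_linear]
    rw [this, g_conv (by simp) (esymm_zero_eq s), g_linear, ih, Multiset.map_cons, Multiset.sum_cons]

/-- The `γ`-sequence of a `λ`-sequence. -/
def toGamma (a : ℕ → R) (n : ℕ) : R :=
  if n = 0 then 1 else
    ∑ j ∈ range (n + 1), (Nat.choose (n - 1) (j - 1) : R) * (if j = 0 then 0 else a j)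

theorem gamma_eq {K : Type*} [CommRing K] [LambdaRing.LambdaOps K] (k : ℕ) (x : K) :
    LambdaRing.gamma k x = toGamma (fun n => LambdaRing.LambdaOps.lam n x) k := rfl

theorem toGamma_zero (a : ℕ → R) : toGamma a 0 = 1 := if_pos rfl

theorem toGamma_succ (a : ℕ → R) (n : ℕ) :
    toGamma a (n + 1) = a (n + 1) + ∑ j ∈ range n, (Nat.choose n j : R) * a (j + 1) := by
  rw [toGamma, if_neg (Nat.succ_ne_zero n), Finset.sum_range_succ, Finset.sum_range_succ']
  simp [add_comm]

theorem map_toGamma {S F : Type*} [CommRing S] [FunLike F R S] [RingHomClass F R S] (φ : F)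
    (a : ℕ → R) (n : ℕ) : φ (toGamma a n) = toGamma (fun m => φ (a m)) n := by
  simp only [toGamma]
  split_ifs with h
  · simp
  · simp only [map_sum, map_mul, map_natCast]
    exact Finset.sum_congr rfl fun j _ => by split_ifs <;> simp

theorem mk_toGamma {a : ℕ → R} (h : a 0 = 1) :
    mk (toGamma a) = (mk a).subst (Lambda37.gT R) := by
  ext k
  rw [coeff_mk, coeff_subst' Lambda37.hasSubst_gT]
  rw [finsum_eq_sum_of_support_subset _ (s := range (k + 1)) ?_]
  · simp only [coeff_mk, smul_eq_mul, Lambda37.coeff_gT_pow]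
    rcases Nat.eq_zero_or_pos k with rfl | hk
    · simp [toGamma, h]
    · rw [toGamma, if_neg hk.ne']
      refine Finset.sum_congr rfl fun j hj => ?_
      rw [Finset.mem_range] at hj
      rcases j with _ | j
      · simp [hk.ne']
      · rw [if_neg (Nat.succ_ne_zero j), if_neg (Nat.succ_ne_zero j), if_pos (by omega), mul_comm]
  · intro j hj
    rw [Function.mem_support] at hj
    by_contra hcon
    rw [Finset.coe_range, Set.mem_Iio] at hcon
    apply hj
    rw [Lambda37.coeff_gT_pow, if_neg (by omega), if_neg (by omega), smul_zero]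

theorem derivative_gT : derivative R (Lambda37.gT R) = PowerSeries.mk 1 ^ 2 := by
  ext n
  rw [coeff_derivative, show (2 : ℕ) = 1 + 1 from rfl, mk_one_pow_eq_mk_choose_add, coeff_mk,
    Lambda37.gT, coeff_succ_X_mul, coeff_mk, Nat.choose_one_right]
  simp [add_comm]

/-- Binomial transform: the iterated forward difference at `0`. -/
def bT (f : ℕ → R) (i : ℕ) : R := (fwdDiff 1)^[i] f 0

theorem bT_eq_sum (f : ℕ → R) (i : ℕ) :
    bT f i = ∑ j ∈ range (i + 1), (-1) ^ (i - j) * (i.choose j : R) * f j := by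
  rw [bT, fwdDiff_iter_eq_sum_shift]
  refine Finset.sum_congr rfl fun j _ => ?_
  simp [zsmul_eq_mul]

theorem bT_zero (f : ℕ → R) : bT f 0 = f 0 := rfl

theorem map_bT {S F : Type*} [CommRing S] [FunLike F R S] [RingHomClass F R S] (φ : F)
    (f : ℕ → R) (i : ℕ) : φ (bT f i) = bT (fun j => φ (f j)) i := by
  simp [bT_eq_sum, map_sum]

theorem bT_congr {f f' : ℕ → R} (i : ℕ) (h : ∀ j ≤ i, f j = f' j) : bT f i = bT f' i := by
  rw [bT_eq_sum, bT_eq_sum]
  exact Finset.sum_congr rfl fun j hj => by rw [h j (by have := Finset.mem_range.mp hj; omega)]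

theorem bT_add (f f' : ℕ → R) (i : ℕ) : bT (fun j => f j + f' j) i = bT f i + bT f' i := by
  simp [bT_eq_sum, mul_add, Finset.sum_add_distrib]

theorem bT_mul_left (c : R) (f : ℕ → R) (i : ℕ) : bT (fun j => c * f j) i = c * bT f i := by
  simp only [bT_eq_sum, Finset.mul_sum]
  exact Finset.sum_congr rfl fun j _ => by ring

theorem bT_sum {ι : Type*} (s : Finset ι) (f : ι → ℕ → R) (i : ℕ) :
    bT (fun j => ∑ t ∈ s, f t j) i = ∑ t ∈ s, bT (f t) i := by
  simp only [bT_eq_sum, Finset.mul_sum]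
  exact Finset.sum_comm

theorem bT_const (c : R) (i : ℕ) (hi : 1 ≤ i) : bT (fun _ => c) i = 0 := by
  obtain ⟨i, rfl⟩ : ∃ m, i = m + 1 := ⟨i - 1, by omega⟩
  rw [bT, Function.iterate_succ_apply]
  have : fwdDiff 1 (fun _ : ℕ => c) = fun _ => (0 : R) := by funext y; simp [fwdDiff]
  rw [this]
  have h0 : ∀ m, (fwdDiff 1)^[m] (fun _ : ℕ => (0 : R)) = fun _ => 0 := fun m => by
    induction m with
    | zero => rfl
    | succ m ih => rw [Function.iterate_succ_apply', ih]; funext y; simp [fwdDiff]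
  rw [h0]

/-- Inverse binomial transform. -/
def ibT (d : ℕ → R) (m : ℕ) : R := ∑ r ∈ range (m + 1), (m.choose r : R) * d r

theorem ibT_bT (f : ℕ → R) (m : ℕ) : ibT (bT f) m = f m := by
  have := shift_eq_sum_fwdDiff_iter (1 : ℕ) f m 0
  simp only [smul_eq_mul, mul_one, zero_add] at this
  rw [this]
  simp [ibT, bT, nsmul_eq_mul]

theorem ibT_eq_sum (d : ℕ → R) {m N : ℕ} (h : m ≤ N) :
    ibT d m = ∑ r ∈ range (N + 1), (m.choose r : R) * d r := by
  refine Finset.sum_subset (Finset.range_mono (by omega)) fun r _ hr => ?_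
  rw [Nat.choose_eq_zero_of_lt (by simpa using hr)]
  simp

theorem map_ibT {S F : Type*} [CommRing S] [FunLike F R S] [RingHomClass F R S] (φ : F)
    (d : ℕ → R) (m : ℕ) : φ (ibT d m) = ibT (fun r => φ (d r)) m := by
  simp [ibT, map_sum]

theorem bT_ibT (d : ℕ → R) (i : ℕ) : bT (ibT d) i = d i := by
  rw [bT_congr i fun j hj => ibT_eq_sum d hj, bT_sum]
  have key : ∀ r, bT (fun j => (j.choose r : R) * d r) i = if r = i then d r else 0 := by
    intro r
    have h := congrArg (fun z : ℤ => (z : R)) (fwdDiff_iter_choose_zero r i)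
    have e : bT (fun j => (j.choose r : R)) i = if r = i then 1 else 0 := by
      rw [fwdDiff_iter_eq_sum_shift] at h
      rw [bT_eq_sum]
      simpa [zsmul_eq_mul, eq_comm, apply_ite (fun z : ℤ => (z : R))] using h
    rw [show (fun j : ℕ => (j.choose r : R) * d r) = fun j : ℕ => d r * (j.choose r : R) from
      funext fun j => mul_comm _ _, bT_mul_left, e]
    split_ifs <;> simp
  simp only [key, Finset.sum_ite_eq']
  simp

/-- The ghost components of the `γ`-sequence are the binomial transform of those of the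
`λ`-sequence. -/
theorem g_toGamma {a : ℕ → R} (h : a 0 = 1) (i : ℕ) : g (toGamma a) i = bT (g a) i := by
  rcases i with _ | n
  · simp [g_zero, bT_zero]
  set T := Lambda37.gT R with hT
  have hs : HasSubst T := Lambda37.hasSubst_gT
  have hinv : PowerSeries.invOfUnit ((mk a).subst T) 1 = ((mk a).invOfUnit 1).subst T := by
    refine inv_eq_of_mul (by rw [← mk_toGamma h]; exact cc_mk (toGamma_zero a)) ?_
    rw [← subst_mul hs, mul_inv1 (cc_mk h), ← coe_substAlgHom hs, map_one]
  have hl : logD ((mk a).subst T) = (logD (mk a)).subst T * PowerSeries.mk 1 ^ 2 := by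
    rw [logD, logD, derivative_subst hs, hinv, subst_mul hs, derivative_gT]
    ring
  rw [g_succ, mk_toGamma h, hl, bT_eq_sum, Finset.sum_range_succ', g_zero, mul_zero, add_zero,
    coeff_mul]
  have hsub : ∀ p ≤ n, coeff p ((logD (mk a)).subst T) =
      ∑ k ∈ range (n + 1), coeff k (logD (mk a)) * coeff p (T ^ k) := by
    intro p hp
    rw [coeff_subst' hs, finsum_eq_sum_of_support_subset _ (s := range (n + 1)) ?_]
    · simp
    · intro j hj
      rw [Function.mem_support] at hj
      by_contra hcon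
      rw [Finset.coe_range, Set.mem_Iio] at hcon
      apply hj
      rw [hT, Lambda37.coeff_gT_pow, if_neg (by omega), if_neg (by omega), smul_zero]
  rw [Finset.sum_congr rfl fun p hp => by
    rw [hsub p.1 (by have := Finset.HasAntidiagonal.mem_antidiagonal.mp hp; omega), Finset.sum_mul],
    Finset.sum_comm, Finset.mul_sum]
  refine Finset.sum_congr rfl fun k hk => ?_
  have hkn : k ≤ n := Nat.lt_succ_iff.mp (Finset.mem_range.mp hk)
  rw [Finset.sum_congr rfl fun p _ => mul_assoc (coeff k (logD (mk a))) _ _, ← Finset.mul_sum,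
    ← coeff_mul, g_succ]
  have hw : coeff n (T ^ k * PowerSeries.mk 1 ^ 2) = ((n + 1).choose (k + 1) : R) := by
    rw [hT, Lambda37.gT, mul_pow, mul_assoc, ← pow_add, coeff_X_pow_mul', if_pos hkn,
      show k + 2 = (k + 1) + 1 from rfl, mk_one_pow_eq_mk_choose_add, coeff_mk,
      show k + 1 + (n - k) = n + 1 by omega]
  rw [hw, show n + 1 - (k + 1) = n - k by omega]
  calc (-1) ^ n * (coeff k (logD (mk a)) * ((n + 1).choose (k + 1) : R))
      = (-1) ^ (n - k) * (-1) ^ k * (coeff k (logD (mk a)) * ((n + 1).choose (k + 1) : R)) := by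
        rw [← pow_add, show n - k + k = n by omega]
    _ = _ := by ring

theorem factorial_smul_cancel [BinomialRing R] {n : ℕ} {x y : R}
    (h : n.factorial • x = n.factorial • y) : x = y :=
  have := (inferInstance : BinomialRing R).toIsAddTorsionFree
  nsmul_right_injective (Nat.factorial_ne_zero n) h

/-- The ghost components of the binomial sequence of `c` all equal `c`. -/
theorem g_choose [BinomialRing R] (c : R) (k : ℕ) :
    g (fun n => Ring.choose c n) (k + 1) = c := by
  refine g_unique (a := fun n => Ring.choose c n) (Ring.choose_zero_right c) (fun _ => c) (N := k + 1) ?_ k (Nat.lt_succ_self k)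
  intro n _
  have hstep : ∀ m : ℕ, ((m : R) + 1) * Ring.choose c (m + 1) = (c - m) * Ring.choose c m := by
    intro m
    refine factorial_smul_cancel (n := m) ?_
    have h1 := Ring.descPochhammer_eq_factorial_smul_choose c (m + 1)
    rw [descPochhammer_succ_right, Polynomial.smeval_mul,
      Ring.descPochhammer_eq_factorial_smul_choose c m] at h1
    simp only [Polynomial.smeval_sub, Polynomial.smeval_X, pow_one, Polynomial.smeval_natCast,
      pow_zero, Nat.factorial_succ, nsmul_eq_mul, mul_one] at h1 ⊢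
    push_cast at h1
    linear_combination -h1
  induction n with
  | zero => simp
  | succ m ih =>
    have ih' := ih (by omega)
    have e : ∑ i ∈ range (m + 1), (-1) ^ (i + 1) * c * Ring.choose c (m + 1 - (i + 1)) =
        -∑ i ∈ range (m + 1), (-1) ^ i * c * Ring.choose c (m - i) := by
      rw [← Finset.sum_neg_distrib]
      refine Finset.sum_congr rfl fun i _ => ?_
      rw [Nat.succ_sub_succ, pow_succ]
      ring
    show _ = ∑ i ∈ range (m + 1 + 1), (-1) ^ i * c * Ring.choose c (m + 1 - i)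
    rw [Finset.sum_range_succ', e, ← ih', hstep (m + 1)]
    simp only [Nat.sub_zero, pow_zero, one_mul]
    push_cast
    ring

end Basic

section Rat

variable {R : Type*} [CommRing R] [Algebra ℚ R]

theorem isUnit_succ (n : ℕ) : IsUnit ((n : R) + 1) := by
  have h : IsUnit (algebraMap ℚ R ((n : ℚ) + 1)) := (IsUnit.mk0 _ (by positivity)).map _
  simpa using h

theorem inv_mul_succ (n : ℕ) : algebraMap ℚ R ((n : ℚ) + 1)⁻¹ * ((n : R) + 1) = 1 := by
  rw [show ((n : R) + 1) = algebraMap ℚ R ((n : ℚ) + 1) by simp, ← map_mul,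
    inv_mul_cancel₀ (by positivity), map_one]

/-- The sequence with prescribed ghost components. -/
noncomputable def fromG (G : ℕ → R) : ℕ → R
  | 0 => 1
  | n + 1 => algebraMap ℚ R ((n : ℚ) + 1)⁻¹ *
      ∑ k : Fin (n + 1), (-1) ^ (k : ℕ) * G ((k : ℕ) + 1) * fromG G (n - k)
termination_by n => n
decreasing_by omega

theorem fromG_zero (G : ℕ → R) : fromG G 0 = 1 := by rw [fromG]

theorem fromG_succ (G : ℕ → R) (n : ℕ) : fromG G (n + 1) = algebraMap ℚ R ((n : ℚ) + 1)⁻¹ *
    ∑ k ∈ range (n + 1), (-1) ^ k * G (k + 1) * fromG G (n - k) := by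
  rw [fromG, Fin.sum_univ_eq_sum_range (fun k => (-1) ^ k * G (k + 1) * fromG G (n - k))]

theorem g_fromG (G : ℕ → R) (n : ℕ) : g (fromG G) (n + 1) = G (n + 1) := by
  refine g_unique (fromG_zero G) G (N := n + 1) ?_ n (Nat.lt_succ_self n)
  intro m _
  rw [fromG_succ, ← mul_assoc, mul_comm ((m : R) + 1), inv_mul_succ, one_mul]

theorem eq_of_g_eq {a b : ℕ → R} (ha : a 0 = 1) (hb : b 0 = 1) (n : ℕ)
    (h : ∀ j, 1 ≤ j → j ≤ n → g a j = g b j) : a n = b n := by
  induction n using Nat.strong_induction_on with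
  | _ n ih =>
    rcases n with _ | m
    · rw [ha, hb]
    refine (isUnit_succ (R := R) m).mul_left_cancel ?_
    rw [g_rec ha, g_rec hb]
    refine Finset.sum_congr rfl fun k hk => ?_
    have := Finset.mem_range.mp hk
    rw [h _ (by omega) (by omega), ih (m - k) (by omega) fun j hj hj' => h j hj (by omega)]

theorem seq_ext {a b : ℕ → R} (ha : a 0 = 1) (hb : b 0 = 1)
    (h : ∀ j, g a (j + 1) = g b (j + 1)) : a = b :=
  funext fun n => eq_of_g_eq ha hb n fun j hj _ => by
    obtain ⟨j, rfl⟩ : ∃ i, j = i + 1 := ⟨j - 1, by omega⟩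
    exact h j

theorem fromG_g {a : ℕ → R} (ha : a 0 = 1) : fromG (g a) = a :=
  seq_ext (fromG_zero _) ha fun j => g_fromG _ j

theorem fromG_congr {G G' : ℕ → R} (n : ℕ) (h : ∀ j, 1 ≤ j → j ≤ n → G j = G' j) :
    fromG G n = fromG G' n := by
  refine eq_of_g_eq (fromG_zero _) (fromG_zero _) n fun j hj hjn => ?_
  obtain ⟨j, rfl⟩ : ∃ i, j = i + 1 := ⟨j - 1, by omega⟩
  rw [g_fromG, g_fromG, h _ hj hjn]

theorem map_fromG {S F : Type*} [CommRing S] [Algebra ℚ S] [FunLike F R S] [RingHomClass F R S]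
    (φ : F) (G : ℕ → R) (n : ℕ) : φ (fromG G n) = fromG (fun j => φ (G j)) n := by
  refine eq_of_g_eq (a := fun m => φ (fromG G m)) (by simp [fromG_zero]) (fromG_zero _) n
    fun j hj _ => ?_
  obtain ⟨j, rfl⟩ : ∃ i, j = i + 1 := ⟨j - 1, by omega⟩
  rw [← map_g φ (fromG_zero G), g_fromG, g_fromG]

open Polynomial in
theorem bT_eval (P : ℚ[X]) {n : ℕ} (hP : P.natDegree ≤ n) :
    bT (fun j : ℕ => P.eval (j : ℚ)) n = n.factorial * P.coeff n := by
  have h : bT (fun j : ℕ => P.eval (j : ℚ)) n = (fwdDiff (1 : ℚ))^[n] (fun x => P.eval x) 0 := by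
    rw [bT_eq_sum, fwdDiff_iter_eq_sum_shift]
    refine Finset.sum_congr rfl fun j _ => ?_
    simp [zsmul_eq_mul, nsmul_eq_mul]
  rw [h]
  rcases hP.eq_or_lt with rfl | hlt
  · rw [P.fwdDiff_iter_degree_eq_factorial, Polynomial.leadingCoeff]
    simp [mul_comm]
  · rw [P.fwdDiff_iter_eq_zero_of_degree_lt hlt, Polynomial.coeff_eq_zero_of_natDegree_lt hlt]
    simp

/-- `j ↦ choose (j*k) r` as a polynomial in `j`. -/
noncomputable def chooseMul (k r : ℕ) : Polynomial ℚ :=
  Polynomial.C (r.factorial : ℚ)⁻¹ * (descPochhammer ℚ r).comp (Polynomial.C (k : ℚ) * Polynomial.X)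

theorem chooseMul_eval (k r j : ℕ) : (chooseMul k r).eval (j : ℚ) = ((j * k).choose r : ℚ) := by
  rw [chooseMul, Polynomial.eval_mul, Polynomial.eval_C, Polynomial.eval_comp, Polynomial.eval_mul,
    Polynomial.eval_C, Polynomial.eval_X, ← Nat.cast_mul, descPochhammer_eval_eq_descFactorial,
    Nat.descFactorial_eq_factorial_mul_choose, mul_comm j k]
  push_cast
  rw [← mul_assoc, inv_mul_cancel₀ (by exact_mod_cast Nat.factorial_ne_zero r), one_mul]

theorem chooseMul_natDegree (k r : ℕ) : (chooseMul k r).natDegree ≤ r := by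
  refine (Polynomial.natDegree_C_mul_le _ _).trans (Polynomial.natDegree_comp_le.trans ?_)
  rw [descPochhammer_natDegree]
  exact (Nat.mul_le_mul le_rfl ((Polynomial.natDegree_C_mul_le _ _).trans Polynomial.natDegree_X_le)).trans_eq (mul_one r)

theorem chooseMul_coeff (k r : ℕ) : (r.factorial : ℚ) * (chooseMul k r).coeff r = (k : ℚ) ^ r := by
  rw [chooseMul, Polynomial.coeff_C_mul, ← mul_assoc,
    mul_inv_cancel₀ (by exact_mod_cast Nat.factorial_ne_zero r), one_mul]
  rw [Polynomial.comp_C_mul_X_coeff]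
  have : (descPochhammer ℚ r).coeff r = 1 := by
    have h := monic_descPochhammer ℚ r
    rwa [Polynomial.Monic, Polynomial.leadingCoeff, descPochhammer_natDegree] at h
  rw [this, one_mul]

/-- The matrix describing the action of `ψ^k` on the ghost components of a `γ`-sequence. -/
def psiCoef (k i r : ℕ) : ℚ := bT (fun j => ((j * k).choose r : ℚ)) i

theorem psiCoef_of_lt {k i r : ℕ} (h : r < i) : psiCoef k i r = 0 := by
  rw [psiCoef, bT_congr i (fun j _ => (chooseMul_eval k r j).symm),
    bT_eval _ ((chooseMul_natDegree k r).trans h.le),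
    Polynomial.coeff_eq_zero_of_natDegree_lt ((chooseMul_natDegree k r).trans_lt h), mul_zero]

theorem psiCoef_self (k i : ℕ) : psiCoef k i i = (k : ℚ) ^ i := by
  rw [psiCoef, bT_congr i (fun j _ => (chooseMul_eval k i j).symm),
    bT_eval _ (chooseMul_natDegree k i), chooseMul_coeff]

theorem bT_ibT_mul (d : ℕ → R) (k i : ℕ) {N : ℕ} (hN : i * k ≤ N) :
    bT (fun j => ibT d (j * k)) i =
      ∑ r ∈ range (N + 1), algebraMap ℚ R (psiCoef k i r) * d r := by
  rw [bT_congr i fun j hj => ibT_eq_sum d ((Nat.mul_le_mul_right k hj).trans hN), bT_sum]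
  refine Finset.sum_congr rfl fun r _ => ?_
  rw [psiCoef, map_bT (algebraMap ℚ R), mul_comm, ← bT_mul_left]
  exact bT_congr i fun j _ => by rw [map_natCast, mul_comm]

/-- Coefficients of the product rule for binomial transforms. -/
def mulCoef (i a b : ℕ) : ℚ := bT (fun j => (j.choose a : ℚ) * (j.choose b : ℚ)) i

theorem mulCoef_of_lt {i a b : ℕ} (h : a + b < i) : mulCoef i a b = 0 := by
  have hd : (chooseMul 1 a * chooseMul 1 b).natDegree < i :=
    (Polynomial.natDegree_mul_le.trans (Nat.add_le_add (chooseMul_natDegree 1 a)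
      (chooseMul_natDegree 1 b))).trans_lt h
  rw [mulCoef, bT_congr i (fun j _ => show _ = (chooseMul 1 a * chooseMul 1 b).eval (j : ℚ) by
    rw [Polynomial.eval_mul, chooseMul_eval, chooseMul_eval, mul_one]),
    bT_eval _ hd.le, Polynomial.coeff_eq_zero_of_natDegree_lt hd, mul_zero]

theorem bT_mul (f f' : ℕ → R) (i : ℕ) :
    bT (fun j => f j * f' j) i = ∑ a ∈ range (i + 1), ∑ b ∈ range (i + 1),
      algebraMap ℚ R (mulCoef i a b) * (bT f a * bT f' b) := by
  have e : ∀ j ≤ i, f j * f' j = ∑ a ∈ range (i + 1), ∑ b ∈ range (i + 1),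
      (bT f a * bT f' b) * ((j.choose a : R) * (j.choose b : R)) := by
    intro j hj
    conv_lhs => rw [← ibT_bT f j, ← ibT_bT f' j, ibT_eq_sum _ hj, ibT_eq_sum _ hj,
      Finset.sum_mul_sum]
    exact Finset.sum_congr rfl fun a _ => Finset.sum_congr rfl fun b _ => by ring
  rw [bT_congr i e, bT_sum]
  refine Finset.sum_congr rfl fun a _ => ?_
  rw [bT_sum]
  refine Finset.sum_congr rfl fun b _ => ?_
  rw [bT_mul_left, mulCoef, map_bT (algebraMap ℚ R), mul_comm]
  congr 1
  exact bT_congr i fun j _ => by simp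

end Rat

end Groth.Agent.Lam38
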