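import Groth.Agent.Lam38.Poly
import Mathlib.RingTheory.Localization.FractionRing

/-!
A torsion-free ring inside a `ℚ`-algebra, and the specialness of binomial rings.
-/

set_option autoImplicit false

universe u

namespace Groth.Agent.Lam38

open nonZeroDivisors

/-- `K ⊗ ℚ` as a localization. -/
abbrev KQ (K : Type u) [CommRing K] : Type u :=
  Localization (Algebra.algebraMapSubmonoid K (ℤ⁰))

variable (K : Type u) [CommRing K]

theorem isUnit_int_KQ (m : ℤ⁰) : IsUnit (Int.castRingHom (KQ K) (m : ℤ)) := by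
  have h := IsLocalization.map_units (KQ K)
    (⟨algebraMap ℤ K (m : ℤ), Algebra.mem_algebraMapSubmonoid_of_mem m⟩ :
      Algebra.algebraMapSubmonoid K (ℤ⁰))
  simpa using h

noncomputable instance algebraRatKQ : Algebra ℚ (KQ K) :=
  RingHom.toAlgebra (IsLocalization.lift (S := ℚ) (g := Int.castRingHom (KQ K)) (isUnit_int_KQ K))

theorem KQ_injective [IsAddTorsionFree K] :
    Function.Injective (algebraMap K (KQ K)) := by
  refine IsLocalization.injective (M := Algebra.algebraMapSubmonoid K (ℤ⁰)) (KQ K) ?_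
  rintro _ ⟨m, hm, rfl⟩
  rw [mem_nonZeroDivisors_iff_right]
  intro x hx
  have h : m • x = 0 := by rw [zsmul_eq_mul, mul_comm]; simpa using hx
  rcases Int.natAbs_eq m with hm' | hm' <;> rw [hm'] at h
  · exact nsmul_right_injective (M := K) (n := m.natAbs)
      (Int.natAbs_ne_zero.mpr (nonZeroDivisors.ne_zero hm))
      (show m.natAbs • x = m.natAbs • 0 by rw [nsmul_zero, ← natCast_zsmul, h])
  · exact nsmul_right_injective (M := K) (n := m.natAbs)
      (Int.natAbs_ne_zero.mpr (nonZeroDivisors.ne_zero hm))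
      (show m.natAbs • x = m.natAbs • 0 by
        rw [neg_smul, neg_eq_zero] at h; rw [nsmul_zero, ← natCast_zsmul, h])

variable {K}

open LambdaRing

theorem isSpecial_of_isBinomial [LambdaOps K] [BinomialRing K] (hKb : IsBinomial K) : IsSpecial K := by
  have := (inferInstance : BinomialRing K).toIsAddTorsionFree
  set φ := algebraMap K (KQ K)
  have hφ : Function.Injective φ := KQ_injective K
  have h0 : ∀ x : K, φ (LambdaOps.lam 0 x) = 1 := fun x => by rw [LambdaOps.lam_zero, map_one]
  have hg : ∀ (x : K) (k : ℕ), g (fun n => φ (LambdaOps.lam n x)) (k + 1) = φ x := fun x k => by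
    have e : (fun n => LambdaOps.lam n x) = fun n => Ring.choose x n := funext fun n => hKb n x
    rw [← map_g φ (a := fun n => LambdaOps.lam n x) (LambdaOps.lam_zero x), e, g_choose]
  refine ⟨fun n hn => ?_, fun n P hP x y => ?_, fun i j Q hQ x => ?_⟩
  · rw [hKb, show (1 : K) = ((1 : ℕ) : K) by simp, Ring.choose_natCast, Nat.choose_eq_zero_of_lt hn,
      Nat.cast_zero]
  · apply hφ
    rw [@map_aevalZ _ _ _ _ _ _ _ (Ring.toIntAlgebra (KQ K))]
    refine Eq.trans ?_ (Eq.trans (aeval_mulPoly hP (a := fun m => φ (LambdaOps.lam m x))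
      (b := fun m => φ (LambdaOps.lam m y)) (h0 x) (h0 y)).symm ?_)
    · refine (congrFun (fromG_g (a := fun m => φ (LambdaOps.lam m (x * y))) (h0 _)) n).symm.trans ?_
      refine fromG_congr n fun k hk _ => ?_
      obtain ⟨k, rfl⟩ : ∃ i, k = i + 1 := ⟨k - 1, by omega⟩
      rw [hg, hg, hg, map_mul]
    · congr 2
      funext s
      rcases s with l | l <;> rfl
  · apply hφ
    rw [@map_aevalZ _ _ _ _ _ _ _ (Ring.toIntAlgebra (KQ K))]
    refine Eq.trans ?_ (aeval_compPoly hQ (a := fun m => φ (LambdaOps.lam m x)) (h0 x)).symm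
    refine (congrFun (fromG_g (a := fun m => φ (LambdaOps.lam m (LambdaOps.lam i x))) (h0 _)) j).symm.trans ?_
    refine fromG_congr j fun m hm _ => ?_
    obtain ⟨m, rfl⟩ : ∃ t, m = t + 1 := ⟨m - 1, by omega⟩
    rw [hg, frob, ← congrFun (fromG_g (a := fun m => φ (LambdaOps.lam m x)) (h0 x)) i]
    refine fromG_congr i fun k hk _ => ?_
    obtain ⟨k, rfl⟩ : ∃ t, k = t + 1 := ⟨k - 1, by omega⟩
    rw [hg, show (m + 1) * (k + 1) = (m * (k + 1) + k) + 1 by ring, hg]

end Groth.Agent.Lam38
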