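import Groth.Agent.Lam38.Poly

/-!
Multiplicative filtrations and ghost components; weight ideals of polynomial rings.
-/

set_option autoImplicit false

namespace Groth.Agent.Lam38

open Finset

/-- A multiplicative decreasing filtration by ideals. -/
structure Mult {R : Type*} [CommRing R] (T : ℕ → Ideal R) : Prop where
  zero : T 0 = ⊤
  anti : ∀ {a b : ℕ}, a ≤ b → T b ≤ T a
  mul : ∀ {a b : ℕ} {x y : R}, x ∈ T a → y ∈ T b → x * y ∈ T (a + b)

namespace Mult

variable {R : Type*} [CommRing R] {T : ℕ → Ideal R} (hT : Mult T)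

include hT

theorem mem_zero (x : R) : x ∈ T 0 := by rw [hT.zero]; trivial

theorem pow {a : ℕ} {x : R} (hx : x ∈ T a) (n : ℕ) : x ^ n ∈ T (n * a) := by
  induction n with
  | zero => rw [Nat.zero_mul]; exact hT.mem_zero _
  | succ n ih => rw [pow_succ, Nat.succ_mul]; exact hT.mul ih hx

theorem prod {σ : Type*} (s : Finset σ) (f : σ → R) (a : σ → ℕ) (h : ∀ i ∈ s, f i ∈ T (a i)) :
    ∏ i ∈ s, f i ∈ T (∑ i ∈ s, a i) := by
  classical
  induction s using Finset.induction with
  | empty => simpa using hT.mem_zero (1 : R)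
  | insert i s hi ih =>
    rw [Finset.prod_insert hi, Finset.sum_insert hi]
    exact hT.mul (h i (Finset.mem_insert_self i s)) (ih fun j hj => h j (Finset.mem_insert_of_mem hj))

theorem g_mem {a : ℕ → R} (ha : a 0 = 1) (h : ∀ j, 1 ≤ j → a j ∈ T j) (k : ℕ) : g a k ∈ T k := by
  induction k using Nat.strong_induction_on with
  | _ k ih =>
    rcases k with _ | n
    · exact hT.mem_zero _
    rw [g_eq ha]
    refine Ideal.mul_mem_left _ _ (sub_mem (Ideal.mul_mem_left _ _ (h _ (by omega))) (Ideal.sum_mem _ fun k hk => ?_))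
    have hk' := Finset.mem_range.mp hk
    rw [mul_assoc]
    refine Ideal.mul_mem_left _ _ ?_
    have := hT.mul (ih (k + 1) (by omega)) (h (n - k) (by omega))
    rwa [show k + 1 + (n - k) = n + 1 by omega] at this

variable [Algebra ℚ R]

theorem fromG_mem {G : ℕ → R} (h : ∀ j, 1 ≤ j → G j ∈ T j) (n : ℕ) : fromG G n ∈ T n := by
  induction n using Nat.strong_induction_on with
  | _ n ih =>
    rcases n with _ | n
    · exact hT.mem_zero _
    rw [fromG_succ]
    refine Ideal.mul_mem_left _ _ (Ideal.sum_mem _ fun k hk => ?_)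
    have hk' := Finset.mem_range.mp hk
    rw [mul_assoc]
    refine Ideal.mul_mem_left _ _ ?_
    have := hT.mul (h (k + 1) (by omega)) (ih (n - k) (by omega))
    rwa [show k + 1 + (n - k) = n + 1 by omega] at this

end Mult

section Ideals

variable {R : Type*} [CommRing R]

theorem g_mem_ideal {J : Ideal R} {a : ℕ → R} (ha : a 0 = 1) (h : ∀ j, 1 ≤ j → a j ∈ J) (k : ℕ) :
    g a k ∈ J := by
  induction k using Nat.strong_induction_on with
  | _ k ih =>
    rcases k with _ | n
    · exact zero_mem _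
    rw [g_eq ha]
    exact Ideal.mul_mem_left _ _ (sub_mem (Ideal.mul_mem_left _ _ (h _ (by omega)))
      (Ideal.sum_mem _ fun k hk => Ideal.mul_mem_left _ _
        (h _ (by have := Finset.mem_range.mp hk; omega))))

variable [Algebra ℚ R]

theorem mem_of_succ_mul {I : Ideal R} {n : ℕ} {x : R} (h : ((n : R) + 1) * x ∈ I) : x ∈ I := by
  have := Ideal.mul_mem_left I (algebraMap ℚ R ((n : ℚ) + 1)⁻¹) h
  rwa [← mul_assoc, inv_mul_succ, one_mul] at this

theorem fromG_mem_ideal {J : Ideal R} {G : ℕ → R} (h : ∀ j, 1 ≤ j → G j ∈ J) (n : ℕ) :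
    fromG G (n + 1) ∈ J := by
  rw [fromG_succ]
  exact Ideal.mul_mem_left _ _ (Ideal.sum_mem _ fun k _ => Ideal.mul_mem_right _ _
    (Ideal.mul_mem_left _ _ (h _ (by omega))))

theorem fromG_rec (G : ℕ → R) (n : ℕ) :
    ((n : R) + 1) * fromG G (n + 1) = ∑ k ∈ range (n + 1), (-1) ^ k * G (k + 1) * fromG G (n - k) := by
  rw [fromG_succ, ← mul_assoc, mul_comm ((n : R) + 1), inv_mul_succ, one_mul]

theorem fromG_sub {J : Ideal R} {G : ℕ → R} (h : ∀ j, 1 ≤ j → G j ∈ J) (n : ℕ) :
    ((n : R) + 1) * fromG G (n + 1) - (-1) ^ n * G (n + 1) ∈ J * J := by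
  rw [fromG_rec, Finset.sum_range_succ, Nat.sub_self, fromG_zero, mul_one, add_sub_cancel_right]
  refine Ideal.sum_mem _ fun k hk => ?_
  rw [mul_assoc]
  refine Ideal.mul_mem_left _ _ (Ideal.mul_mem_mul (h _ (by omega)) ?_)
  obtain ⟨m, hm⟩ : ∃ m, n - k = m + 1 := ⟨n - k - 1, by have := Finset.mem_range.mp hk; omega⟩
  rw [hm]
  exact fromG_mem_ideal h m

theorem Mult.fromG_graded {T : ℕ → Ideal R} (hT : Mult T) {G G' : ℕ → R} (c : R)
    (h : ∀ j, 1 ≤ j → G j ∈ T j) (h' : ∀ j, 1 ≤ j → G' j - c ^ j * G j ∈ T (j + 1)) (n : ℕ) :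
    fromG G' n - c ^ n * fromG G n ∈ T (n + 1) := by
  have hG' : ∀ j, 1 ≤ j → G' j ∈ T j := fun j hj => by
    have := add_mem (hT.anti (Nat.le_succ j) (h' j hj)) (Ideal.mul_mem_left _ (c ^ j) (h j hj))
    rwa [sub_add_cancel] at this
  induction n using Nat.strong_induction_on with
  | _ n ih =>
    rcases n with _ | n
    · simp [fromG_zero]
    refine mem_of_succ_mul (n := n) ?_
    rw [mul_sub, fromG_rec, mul_left_comm, fromG_rec, Finset.mul_sum, ← Finset.sum_sub_distrib]
    refine Ideal.sum_mem _ fun k hk => ?_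
    have hk' := Finset.mem_range.mp hk
    have hc : c ^ (n + 1) = c ^ (k + 1) * c ^ (n - k) := by rw [← pow_add]; congr 1; omega
    have e : (-1) ^ k * G' (k + 1) * fromG G' (n - k) - c ^ (n + 1) * ((-1) ^ k * G (k + 1) * fromG G (n - k)) =
        (-1) ^ k * ((G' (k + 1) - c ^ (k + 1) * G (k + 1)) * fromG G' (n - k) +
          c ^ (k + 1) * (G (k + 1) * (fromG G' (n - k) - c ^ (n - k) * fromG G (n - k)))) := by
      rw [hc]; ring
    rw [e]
    refine Ideal.mul_mem_left _ _ (add_mem ?_ (Ideal.mul_mem_left _ _ ?_))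
    · have := hT.mul (h' (k + 1) (by omega)) (hT.fromG_mem hG' (n - k))
      rwa [show k + 1 + 1 + (n - k) = n + 1 + 1 by omega] at this
    · have := hT.mul (h (k + 1) (by omega)) (ih (n - k) (by omega))
      rwa [show k + 1 + (n - k + 1) = n + 1 + 1 by omega] at this

end Ideals

section WI

open MvPolynomial

variable {σ : Type*} {R : Type*} [CommRing R]

/-- Polynomials all of whose monomials have weight at least `n`. -/
noncomputable def WI (R : Type*) [CommRing R] (w : σ → ℕ) (n : ℕ) : Ideal (MvPolynomial σ R) where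
  carrier := {p | ∀ d : σ →₀ ℕ, coeff d p ≠ 0 → n ≤ Finsupp.weight w d}
  zero_mem' := fun d hd => by simp at hd
  add_mem' := fun {p q} hp hq d hd => by
    by_cases h : coeff d p = 0
    · exact hq d (by simpa [h] using hd)
    · exact hp d h
  smul_mem' := fun a p hp d hd => by
    classical
    rw [smul_eq_mul, coeff_mul] at hd
    obtain ⟨⟨i, j⟩, hij, hne⟩ := Finset.exists_ne_zero_of_sum_ne_zero hd
    have hj := hp j (fun h => hne (by rw [h, mul_zero]))
    rw [Finset.HasAntidiagonal.mem_antidiagonal] at hij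
    simp only at hij
    rw [← hij, map_add]
    omega

theorem mem_WI {w : σ → ℕ} {n : ℕ} {p : MvPolynomial σ R} :
    p ∈ WI R w n ↔ ∀ d : σ →₀ ℕ, coeff d p ≠ 0 → n ≤ Finsupp.weight w d := Iff.rfl

theorem WI_mult (w : σ → ℕ) : Mult (WI R w) where
  zero := eq_top_iff.mpr fun _ _ _ _ => Nat.zero_le _
  anti := fun hab _ hp d hd => hab.trans (hp d hd)
  mul := fun {a b x y} hx hy d hd => by
    classical
    rw [coeff_mul] at hd
    obtain ⟨⟨i, j⟩, hij, hne⟩ := Finset.exists_ne_zero_of_sum_ne_zero hd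
    have hi := hx i (fun h => hne (by rw [h, zero_mul]))
    have hj := hy j (fun h => hne (by rw [h, mul_zero]))
    rw [Finset.HasAntidiagonal.mem_antidiagonal] at hij
    simp only at hij
    rw [← hij, map_add]
    omega

theorem WI_mul_le (w : σ → ℕ) (a b : ℕ) : WI R w a * WI R w b ≤ WI R w (a + b) :=
  Ideal.mul_le.mpr fun _ hx _ hy => (WI_mult w).mul hx hy

theorem X_mem_WI (w : σ → ℕ) (v : σ) : (X v : MvPolynomial σ R) ∈ WI R w (w v) := fun d hd => by
  classical
  rw [coeff_X'] at hd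
  split_ifs at hd with h
  · subst h; simp [Finsupp.weight_single]
  · exact absurd rfl hd

theorem map_mem_WI_iff {S : Type*} [CommRing S] {f : R →+* S} (hf : Function.Injective f) (w : σ → ℕ)
    (n : ℕ) (p : MvPolynomial σ R) : map f p ∈ WI S w n ↔ p ∈ WI R w n := by
  simp [mem_WI, coeff_map, map_ne_zero_iff f hf]

theorem map_mem_WI {S : Type*} [CommRing S] (f : R →+* S) (w : σ → ℕ)
    (n : ℕ) (p : MvPolynomial σ R) (hp : p ∈ WI R w n) : map f p ∈ WI S w n := fun d hd =>
  hp d fun h => hd (by rw [coeff_map, h, map_zero])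

theorem mem_WI_one_iff {w : σ → ℕ} (hw : ∀ v, 0 < w v) {p : MvPolynomial σ R} :
    p ∈ WI R w 1 ↔ constantCoeff p = 0 := by
  constructor
  · intro h
    by_contra hne
    have := h 0 hne
    simp at this
  · intro h d hd
    by_contra hlt
    have h0 : Finsupp.weight w d = 0 := by omega
    have : d = 0 := by
      ext v
      by_contra hv
      have := Finsupp.le_weight_of_ne_zero' w hv
      have := hw v
      omega
    subst this
    exact hd h

/-- Evaluation is compatible with the weight filtration. -/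
theorem aeval_mem_of_WI {A : Type*} [CommRing A] [Algebra R A] {T : ℕ → Ideal A} (hT : Mult T)
    {w : σ → ℕ} {x : σ → A} (hx : ∀ v, x v ∈ T (w v)) {n : ℕ} {p : MvPolynomial σ R}
    (hp : p ∈ WI R w n) : aeval x p ∈ T n := by
  classical
  rw [p.as_sum, map_sum]
  refine Ideal.sum_mem _ fun d hd => ?_
  rw [aeval_monomial]
  refine Ideal.mul_mem_left _ _ (hT.anti (hp d (mem_support_iff.mp hd)) ?_)
  rw [Finsupp.weight_apply, Finsupp.sum]
  exact hT.prod _ _ _ fun v _ => hT.pow (hx v) _

end WI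

end Groth.Agent.Lam38
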