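import Groth.Agent.Lam38.Ghost
import Groth.Agent.Lambda37.MulPoly

/-!
The universal polynomials `P_n`, `Q_{i,j}` expressed through ghost components, and the
characterisation of special λ-rings over `ℚ` by Adams operations.
-/

set_option autoImplicit false

namespace Groth.Agent.Lam38

open MvPolynomial Finset
open Groth.Agent.Lambda37 (eVec exists_eq_aeval_eVec aeval_eVec_injective eVec_isWeightedHomogeneous
  isWeightedHomogeneous_of_aeval)

/-- A finite tuple as a sequence. -/
def tseq {R : Type*} [CommRing R] {n : ℕ} (v : Fin n → R) : ℕ → R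
  | 0 => 1
  | m + 1 => if h : m < n then v ⟨m, h⟩ else 0

theorem tseq_zero {R : Type*} [CommRing R] {n : ℕ} (v : Fin n → R) : tseq v 0 = 1 := rfl

theorem tseq_succ {R : Type*} [CommRing R] {n : ℕ} (v : Fin n → R) (k : Fin n) :
    tseq v ((k : ℕ) + 1) = v k := dif_pos k.2

theorem map_tseq {R S F : Type*} [CommRing R] [CommRing S] [FunLike F R S] [RingHomClass F R S]
    (φ : F) {n : ℕ} (v : Fin n → R) (m : ℕ) : φ (tseq v m) = tseq (fun k => φ (v k)) m := by
  rcases m with _ | m
  · simp [tseq]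
  · simp only [tseq]; split_ifs <;> simp

theorem map_aevalZ {σ : Type*} {A S F : Type*} [CommRing A] [CommRing S] {iA : Algebra ℤ A}
    [Algebra ℤ S] [FunLike F A S] [RingHomClass F A S] (φ : F) (v : σ → A) (P : MvPolynomial σ ℤ) :
    φ (aeval v P) = aeval (fun s => φ (v s)) P := by
  induction P using MvPolynomial.induction_on with
  | C a => simp
  | add p q hp hq => simp only [map_add, hp, hq]
  | mul_X p s hp => simp only [map_mul, aeval_X, hp]

theorem aeval_mapZ {σ : Type*} {S A : Type*} [CommRing S] [CommRing A] [Algebra S A]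
    [Algebra ℤ A] (v : σ → A)
    (P : MvPolynomial σ ℤ) : aeval v (map (Int.castRingHom S) P) = aeval v P := by
  rw [aeval_def, aeval_def, eval₂_map]
  congr 1
  exact RingHom.ext_int _ _

theorem map_mesymm {R S F : Type*} [CommSemiring R] [CommSemiring S] [FunLike F R S]
    [RingHomClass F R S] (φ : F) (s : Multiset R) (k : ℕ) : φ (s.esymm k) = (s.map φ).esymm k := by
  simp [Multiset.esymm, map_multiset_sum, map_multiset_prod, Multiset.powersetCard_map,
    Multiset.map_map]

/-- The variables as a multiset. -/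
noncomputable def vars' (R : Type*) [CommRing R] {σ : Type*} [Fintype σ] : Multiset (MvPolynomial σ R) :=
  (Finset.univ : Finset σ).val.map X

theorem tseq_eVec (R : Type*) [CommRing R] (n : ℕ) :
    tseq (eVec R n) = fun m => (vars' R (σ := Fin n)).esymm m := by
  funext m
  rcases m with _ | m
  · exact (esymm_zero_eq _).symm
  · simp only [tseq]
    split_ifs with h
    · exact esymm_eq_multiset_esymm (Fin n) R ▸ rfl
    · symm
      rw [Multiset.esymm, Multiset.powersetCard_eq_empty _ (by simp [vars']; omega)]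
      simp

section Both

variable {R : Type*} [CommRing R] {n : ℕ}

/-- The elementary symmetric functions of two families. -/
noncomputable def eB (R : Type*) [CommRing R] (n : ℕ) : Fin n ⊕ Fin n → MvPolynomial (Fin n ⊕ Fin n) R :=
  Sum.elim (fun k : Fin n => rename Sum.inl (eVec R n k)) (fun k : Fin n => rename Sum.inr (eVec R n k))

theorem aeval_eB (x : MvPolynomial (Fin n ⊕ Fin n) R) :
    sumAlgEquiv R (Fin n) (Fin n) (aeval (eB R n) x) =
      aeval (eVec (MvPolynomial (Fin n) R) n)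
        (map (aeval (eVec R n)).toRingHom (sumAlgEquiv R (Fin n) (Fin n) x)) := by
  induction x using MvPolynomial.induction_on with
  | C a => simp
  | add p q hp hq => simp only [map_add, hp, hq]
  | mul_X p s hp =>
    simp only [map_mul, aeval_X, hp]
    congr 1
    rcases s with i | j
    · simp only [sumAlgEquiv_X_inl, map_X, aeval_X, eB, Sum.elim_inl, eVec]
      rw [esymm, esymm, map_sum, map_sum]
      refine Finset.sum_congr rfl fun t _ => ?_
      simp [map_prod]
    · simp only [sumAlgEquiv_X_inr, eB, Sum.elim_inr, map_C, AlgHom.toRingHom_eq_coe,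
        RingHom.coe_coe, aeval_X, algebraMap_eq, aeval_C, eVec]
      rw [esymm, map_sum, map_sum, map_sum]
      refine Finset.sum_congr rfl fun t _ => ?_
      simp [map_prod]

theorem aeval_eB_injective : Function.Injective
    (aeval (eB R n) : MvPolynomial (Fin n ⊕ Fin n) R →ₐ[R] MvPolynomial (Fin n ⊕ Fin n) R) := by
  intro a b hab
  have h := congrArg (sumAlgEquiv R (Fin n) (Fin n)) hab
  rw [aeval_eB, aeval_eB] at h
  exact (sumAlgEquiv R (Fin n) (Fin n)).injective
    (map_injective _ aeval_eVec_injective (aeval_eVec_injective h))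

end Both

section QAlg

variable {R : Type*} [CommRing R] [Algebra ℚ R]

/-- Ghost-componentwise product. -/
noncomputable def mulS (a b : ℕ → R) : ℕ → R := fromG fun k => g a k * g b k

/-- The action of the `m`-th Adams operation. -/
noncomputable def frob (m : ℕ) (a : ℕ → R) : ℕ → R := fromG fun k => g a (m * k)

/-- `j ↦ λ^j ∘ λ^i`. -/
noncomputable def compS (i : ℕ) (a : ℕ → R) : ℕ → R := fromG fun m => frob m a i

theorem map_mulS {S F : Type*} [CommRing S] [Algebra ℚ S] [FunLike F R S] [RingHomClass F R S]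
    (φ : F) {a b : ℕ → R} (ha : a 0 = 1) (hb : b 0 = 1) (n : ℕ) :
    φ (mulS a b n) = mulS (fun m => φ (a m)) (fun m => φ (b m)) n := by
  rw [mulS, map_fromG φ]
  simp only [map_mul, map_g φ ha, map_g φ hb]
  rfl

theorem map_frob {S F : Type*} [CommRing S] [Algebra ℚ S] [FunLike F R S] [RingHomClass F R S]
    (φ : F) (m : ℕ) {a : ℕ → R} (ha : a 0 = 1) (n : ℕ) :
    φ (frob m a n) = frob m (fun k => φ (a k)) n := by
  rw [frob, map_fromG φ]
  simp only [map_g φ ha]
  rfl

theorem map_compS {S F : Type*} [CommRing S] [Algebra ℚ S] [FunLike F R S] [RingHomClass F R S]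
    (φ : F) (i : ℕ) {a : ℕ → R} (ha : a 0 = 1) (n : ℕ) :
    φ (compS i a n) = compS i (fun k => φ (a k)) n := by
  rw [compS, map_fromG φ]
  simp only [map_frob φ _ ha]
  rfl

theorem frob_congr (m : ℕ) {a a' : ℕ → R} (ha : a 0 = 1) (ha' : a' 0 = 1) (n : ℕ)
    (h : ∀ k, 1 ≤ k → k ≤ m * n → a k = a' k) : frob m a n = frob m a' n :=
  fromG_congr n fun _ _ hjn =>
    g_congr ha ha' _ fun k hk hkj => h k hk (hkj.trans (Nat.mul_le_mul_left m hjn))

theorem compS_congr (i j : ℕ) {a a' : ℕ → R} (ha : a 0 = 1) (ha' : a' 0 = 1)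
    (h : ∀ k, 1 ≤ k → k ≤ i * j → a k = a' k) : compS i a j = compS i a' j :=
  fromG_congr j fun m _ hmj => frob_congr m ha ha' i fun k hk hki =>
    h k hk (hki.trans (le_of_le_of_eq (Nat.mul_le_mul_right i hmj) (mul_comm j i)))

theorem mulS_congr {a a' b b' : ℕ → R} (ha : a 0 = 1) (ha' : a' 0 = 1) (hb : b 0 = 1) (hb' : b' 0 = 1)
    (n : ℕ) (h : ∀ k, 1 ≤ k → k ≤ n → a k = a' k) (h' : ∀ k, 1 ≤ k → k ≤ n → b k = b' k) :
    mulS a b n = mulS a' b' n :=
  fromG_congr n fun j _ hjn => by
    show g a j * g b j = g a' j * g b' j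
    rw [g_congr ha ha' j fun k hk hkj => h k hk (hkj.trans hjn),
      g_congr hb hb' j fun k hk hkj => h' k hk (hkj.trans hjn)]

/-- The universal polynomial `P_n` multiplies ghost components. -/
theorem aeval_mulPoly {n : ℕ} {P : MvPolynomial (Fin n ⊕ Fin n) ℤ} (hP : LambdaRing.IsMulPoly n P)
    {a b : ℕ → R} (ha : a 0 = 1) (hb : b 0 = 1) :
    aeval (Sum.elim (fun k : Fin n => a ((k : ℕ) + 1)) (fun k : Fin n => b ((k : ℕ) + 1))) P =
      mulS a b n := by
  let xl : Fin n → MvPolynomial (Fin n ⊕ Fin n) ℚ := fun k => X (Sum.inl k)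
  let xr : Fin n → MvPolynomial (Fin n ⊕ Fin n) ℚ := fun k => X (Sum.inr k)
  have key : map (Int.castRingHom ℚ) P = mulS (tseq xl) (tseq xr) n := by
    apply aeval_eB_injective
    have hl : (fun m => aeval (eB ℚ n) (tseq xl m)) =
        fun m => ((vars' ℚ (σ := Fin n)).map (rename Sum.inl : _ →ₐ[ℚ] MvPolynomial (Fin n ⊕ Fin n) ℚ)).esymm m := by
      funext m
      rw [map_tseq, ← map_mesymm, ← congrFun (tseq_eVec ℚ n) m, map_tseq]
      congr 1
      funext k
      simp [xl, eB]
    have hr : (fun m => aeval (eB ℚ n) (tseq xr m)) =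
        fun m => ((vars' ℚ (σ := Fin n)).map (rename Sum.inr : _ →ₐ[ℚ] MvPolynomial (Fin n ⊕ Fin n) ℚ)).esymm m := by
      funext m
      rw [map_tseq, ← map_mesymm, ← congrFun (tseq_eVec ℚ n) m, map_tseq]
      congr 1
      funext k
      simp [xr, eB]
    rw [map_mulS _ (tseq_zero _) (tseq_zero _), hl, hr]
    have h1 := congrArg (MvPolynomial.map (Int.castRingHom ℚ)) hP.1
    rw [map_aevalZ] at h1
    have h2 : aeval (eB ℚ n) (map (Int.castRingHom ℚ) P) =
        map (Int.castRingHom ℚ) (LambdaRing.mulGen n n) := by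
      rw [← h1, aeval_mapZ]
      congr 2
      funext s
      rcases s with k | k <;> simp [eB, eVec, map_rename, map_esymm]
    rw [h2, LambdaRing.mulGen, map_mesymm, Multiset.map_map]
    refine congrFun (seq_ext (esymm_zero_eq _) (fromG_zero _) fun j => ?_) n
    rw [g_esymm, g_fromG, g_esymm, g_esymm]
    simp only [Multiset.map_map, vars']
    show ∑ ab : Fin n × Fin n, _ = (∑ x : Fin n, _) * ∑ y : Fin n, _
    rw [Finset.sum_mul_sum, Fintype.sum_prod_type]
    simp [mul_pow]
  have happ := congrArg (aeval (R := ℚ) (Sum.elim (fun k : Fin n => a ((k : ℕ) + 1)) (fun k : Fin n => b ((k : ℕ) + 1)))) key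
  rw [map_mulS _ (tseq_zero _) (tseq_zero _)] at happ
  refine Eq.trans ?_ (happ.trans ?_)
  · exact (aeval_mapZ _ _).symm
  · refine mulS_congr ?_ ha ?_ hb n (fun k hk hkn => ?_) (fun k hk hkn => ?_)
    · simp [tseq]
    · simp [tseq]
    · obtain ⟨k, rfl⟩ : ∃ i, k = i + 1 := ⟨k - 1, by omega⟩
      simp [tseq, xl, show k < n by omega]
    · obtain ⟨k, rfl⟩ : ∃ i, k = i + 1 := ⟨k - 1, by omega⟩
      simp [tseq, xr, show k < n by omega]

theorem frob_esymm {S : Type*} [CommRing S] [Algebra ℚ S] (s : Multiset S) (m : ℕ) (hm : 1 ≤ m) :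
    frob m (fun n => s.esymm n) = fun n => (s.map (· ^ m)).esymm n := by
  refine seq_ext (fromG_zero _) (esymm_zero_eq _) fun j => ?_
  obtain ⟨m', rfl⟩ : ∃ i, m = i + 1 := ⟨m - 1, by omega⟩
  rw [frob, g_fromG, g_esymm, show (m' + 1) * (j + 1) = (m' * (j + 1) + j) + 1 by ring, g_esymm,
    Multiset.map_map]
  congr 1
  refine Multiset.map_congr rfl fun a _ => ?_
  simp only [Function.comp_apply]
  rw [← pow_mul]
  congr 1
  ring

/-- The universal polynomial `Q_{i,j}` in terms of ghost components. -/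
theorem aeval_compPoly {i j : ℕ} {Q : MvPolynomial (Fin (i * j)) ℤ} (hQ : LambdaRing.IsCompPoly i j Q)
    {a : ℕ → R} (ha : a 0 = 1) :
    aeval (fun k : Fin (i * j) => a ((k : ℕ) + 1)) Q = compS i a j := by
  classical
  let x : Fin (i * j) → MvPolynomial (Fin (i * j)) ℚ := X
  have key : map (Int.castRingHom ℚ) Q = compS i (tseq x) j := by
    apply aeval_eVec_injective
    have hl : (fun m => aeval (eVec ℚ (i * j)) (tseq x m)) =
        fun m => (vars' ℚ (σ := Fin (i * j))).esymm m := by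
      funext m
      rw [map_tseq, ← congrFun (tseq_eVec ℚ (i * j)) m]
      simp [x]
    rw [map_compS _ i (tseq_zero _), hl]
    have h1 := congrArg (MvPolynomial.map (Int.castRingHom ℚ)) hQ.1
    rw [map_aevalZ] at h1
    have h2 : aeval (eVec ℚ (i * j)) (map (Int.castRingHom ℚ) Q) =
        map (Int.castRingHom ℚ) (LambdaRing.compGen (i * j) i j) := by
      rw [← h1, aeval_mapZ]
      congr 2
      funext k
      simp [eVec, map_esymm]
    rw [h2, LambdaRing.compGen, map_mesymm, Multiset.map_map]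
    refine congrFun (seq_ext (esymm_zero_eq _) (fromG_zero _) fun m => ?_) j
    rw [g_esymm, g_fromG, frob_esymm _ _ (by omega), Multiset.map_map]
    simp only [vars', Multiset.map_map]
    rw [Finset.esymm_map_val]
    show ∑ s ∈ Finset.univ.powersetCard i, _ = _
    refine Finset.sum_congr rfl fun s _ => ?_
    simp [map_prod, Finset.prod_pow]
  have happ := congrArg (aeval (R := ℚ) (fun k : Fin (i * j) => a ((k : ℕ) + 1))) key
  rw [map_compS _ i (tseq_zero _)] at happ
  refine Eq.trans ?_ (happ.trans ?_)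
  · exact (aeval_mapZ _ _).symm
  · refine compS_congr i j ?_ ha fun k hk hkn => ?_
    · simp [tseq]
    · obtain ⟨k, rfl⟩ : ∃ i, k = i + 1 := ⟨k - 1, by omega⟩
      simp [tseq, x, show k < i * j by omega]

end QAlg

section IntUniversal

variable {R : Type*} [CommRing R]

/-- Universal sequences. -/
noncomputable def uSeq {σ : Type*} (S : Type*) [CommRing S] (v : ℕ → σ) : ℕ → MvPolynomial σ S
  | 0 => 1
  | m + 1 => X (v m)

theorem map_uSeq {σ : Type*} {S T : Type*} [CommRing S] [CommRing T] (f : S →+* T) (v : ℕ → σ) (m : ℕ) :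
    map f (uSeq S v m) = uSeq T v m := by
  cases m <;> simp [uSeq]

theorem g_mulPoly (P : (n : ℕ) → MvPolynomial (Fin n ⊕ Fin n) ℤ) (hP : ∀ n, LambdaRing.IsMulPoly n (P n))
    {a b : ℕ → R} (ha : a 0 = 1) (hb : b 0 = 1) (k : ℕ) :
    g (fun n => aeval (Sum.elim (fun l : Fin n => a ((l : ℕ) + 1)) (fun l : Fin n => b ((l : ℕ) + 1))) (P n)) k =
      g a k * g b k := by
  let ψ : MvPolynomial (ℕ ⊕ ℕ) ℤ →+* R :=
    eval₂Hom (Int.castRingHom R) (Sum.elim (fun m => a (m + 1)) (fun m => b (m + 1)))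
  let A := uSeq ℤ (Sum.inl : ℕ → ℕ ⊕ ℕ)
  let B := uSeq ℤ (Sum.inr : ℕ → ℕ ⊕ ℕ)
  let Z : ℕ → MvPolynomial (ℕ ⊕ ℕ) ℤ := fun n =>
    aeval (Sum.elim (fun l : Fin n => A ((l : ℕ) + 1)) (fun l : Fin n => B ((l : ℕ) + 1))) (P n)
  have hA : (fun n => ψ (A n)) = a := funext fun n => by
    rcases n with _ | n <;> simp [A, uSeq, ψ, ha]
  have hB : (fun n => ψ (B n)) = b := funext fun n => by
    rcases n with _ | n <;> simp [B, uSeq, ψ, hb]
  have hQ : ∀ n, map (Int.castRingHom ℚ) (Z n) =
      mulS (uSeq ℚ (Sum.inl : ℕ → ℕ ⊕ ℕ)) (uSeq ℚ Sum.inr) n := fun n => by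
    rw [← aeval_mulPoly (hP n) (a := uSeq ℚ (Sum.inl : ℕ → ℕ ⊕ ℕ)) (b := uSeq ℚ Sum.inr) rfl rfl]
    simp only [Z]
    rw [map_aevalZ]
    congr 2
    funext s
    rcases s with l | l <;> simp [A, B, map_uSeq]
  have hZ0 : Z 0 = 1 := map_injective _ Int.cast_injective (by rw [hQ 0, map_one, mulS, fromG_zero])
  have huniv : g Z k = g A k * g B k := by
    apply map_injective (Int.castRingHom ℚ) Int.cast_injective
    rw [map_mul, map_g _ hZ0, map_g _ (rfl : A 0 = 1), map_g _ (rfl : B 0 = 1),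
      show (fun n => map (Int.castRingHom ℚ) (Z n)) = mulS _ _ from funext hQ]
    simp only [A, B, map_uSeq]
    rcases k with _ | k
    · simp [g_zero]
    · rw [mulS, g_fromG]
  have := congrArg ψ huniv
  rw [map_mul, map_g ψ hZ0, map_g ψ (rfl : A 0 = 1), map_g ψ (rfl : B 0 = 1), hA, hB] at this
  rw [← this]
  congr 1
  funext n
  simp only [Z]
  rw [map_aevalZ]
  congr 2
  funext s
  rcases s with l | l
  · exact (congrFun hA _).symm
  · exact (congrFun hB _).symm

theorem g_g_compPoly (Q : (i j : ℕ) → MvPolynomial (Fin (i * j)) ℤ)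
    (hQ : ∀ i j, LambdaRing.IsCompPoly i j (Q i j)) {a : ℕ → R} (ha : a 0 = 1) (k k' : ℕ)
    (hk : 1 ≤ k) (hk' : 1 ≤ k') :
    g (fun i => g (fun j => aeval (fun l : Fin (i * j) => a ((l : ℕ) + 1)) (Q i j)) k) k' =
      g a (k * k') := by
  let ψ : MvPolynomial ℕ ℤ →+* R := eval₂Hom (Int.castRingHom R) (fun m => a (m + 1))
  let A := uSeq ℤ (id : ℕ → ℕ)
  let Z : ℕ → ℕ → MvPolynomial ℕ ℤ := fun i j =>
    aeval (fun l : Fin (i * j) => A ((l : ℕ) + 1)) (Q i j)
  have hA : (fun n => ψ (A n)) = a := funext fun n => by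
    rcases n with _ | n <;> simp [A, uSeq, ψ, ha]
  have hQ' : ∀ i j, map (Int.castRingHom ℚ) (Z i j) = compS i (uSeq ℚ (id : ℕ → ℕ)) j := fun i j => by
    rw [← aeval_compPoly (hQ i j) (a := uSeq ℚ (id : ℕ → ℕ)) rfl]
    simp only [Z]
    rw [map_aevalZ]
    congr 2
    funext l
    simp [A, map_uSeq]
  have hZ0 : ∀ i, Z i 0 = 1 := fun i =>
    map_injective _ Int.cast_injective (by rw [hQ' i 0, map_one, compS, fromG_zero])
  obtain ⟨k, rfl⟩ : ∃ i, k = i + 1 := ⟨k - 1, by omega⟩
  obtain ⟨k', rfl⟩ : ∃ i, k' = i + 1 := ⟨k' - 1, by omega⟩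
  have hg0 : g (Z 0) (k + 1) = 1 := map_injective (Int.castRingHom ℚ) Int.cast_injective (by
    rw [map_g _ (hZ0 0), show (fun n => map (Int.castRingHom ℚ) (Z 0 n)) = compS 0 _ from funext (hQ' 0),
      compS, g_fromG, frob, fromG_zero, map_one])
  have huniv : g (fun i => g (Z i) (k + 1)) (k' + 1) = g A ((k + 1) * (k' + 1)) := by
    apply map_injective (Int.castRingHom ℚ) Int.cast_injective
    rw [map_g _ hg0, map_g _ (rfl : A 0 = 1)]
    have hin : (fun i => map (Int.castRingHom ℚ) (g (Z i) (k + 1))) =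
        frob (k + 1) (uSeq ℚ (id : ℕ → ℕ)) := funext fun i => by
      rw [map_g _ (hZ0 i), show (fun n => map (Int.castRingHom ℚ) (Z i n)) = compS i _ from funext (hQ' i),
        compS, g_fromG]
    rw [hin, frob, g_fromG]
    simp only [A, map_uSeq]
  have := congrArg ψ huniv
  rw [map_g ψ hg0, map_g ψ (rfl : A 0 = 1), hA] at this
  rw [← this]
  congr 1
  funext i
  rw [map_g ψ (hZ0 i)]
  congr 1
  funext j
  simp only [Z]
  rw [map_aevalZ]
  congr 2
  funext l
  exact (congrFun hA _).symm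

theorem exists_isCompPoly (i j : ℕ) :
    ∃ Q : MvPolynomial (Fin (i * j)) ℤ, LambdaRing.IsCompPoly i j Q := by
  classical
  have hsym : (LambdaRing.compGen (i * j) i j).IsSymmetric := by
    intro e
    rw [LambdaRing.compGen, map_mesymm, Multiset.map_map]
    congr 1
    set s := (Finset.univ : Finset (Fin (i * j))).powersetCard i with hs
    have hmap : s.map ⟨Finset.map e.toEmbedding, Finset.map_injective _⟩ = s := by
      refine Finset.eq_of_subset_of_card_le (fun u hu => ?_) (by rw [Finset.card_map])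
      obtain ⟨t, ht, rfl⟩ := Finset.mem_map.mp hu
      exact Finset.mem_powersetCard.mpr ⟨Finset.subset_univ _,
        (Finset.card_map _).trans (Finset.mem_powersetCard.mp ht).2⟩
    conv_rhs => rw [← hmap, Finset.map_val, Multiset.map_map]
    refine Multiset.map_congr rfl fun t _ => ?_
    simp [map_prod]
  obtain ⟨q, hq⟩ := exists_eq_aeval_eVec hsym
  refine ⟨q, hq, isWeightedHomogeneous_of_aeval (g := eVec ℤ (i * j))
    (v := fun _ => 1) (fun k => eVec_isWeightedHomogeneous k) aeval_eVec_injective ?_⟩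
  rw [hq, LambdaRing.compGen, Finset.esymm_map_val]
  refine IsWeightedHomogeneous.sum _ _ _ fun t ht => ?_
  have h := IsWeightedHomogeneous.prod (R := ℤ) t
    (fun s : Finset (Fin (i * j)) => ∏ a ∈ s, (X a : MvPolynomial (Fin (i * j)) ℤ))
    (fun _ => i) (w := fun _ : Fin (i * j) => (1 : ℕ)) (fun s hs => by
      have h' := IsWeightedHomogeneous.prod (R := ℤ) s
        (fun a => (X a : MvPolynomial (Fin (i * j)) ℤ)) (fun _ => 1) (w := fun _ : Fin (i * j) => (1 : ℕ))
        (fun a _ => isWeightedHomogeneous_X ℤ _ a)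
      have hcard := Finset.mem_powersetCard.mp ((Finset.mem_powersetCard.mp ht).1 hs)
      rwa [Finset.sum_const, hcard.2, smul_eq_mul, mul_one] at h')
  rw [Finset.sum_const, (Finset.mem_powersetCard.mp ht).2, smul_eq_mul] at h
  rw [mul_comm j i] at h
  exact h

end IntUniversal

section Special

open LambdaRing

variable {K : Type*} [CommRing K] [LambdaOps K]

theorem lam_seq_zero (x : K) : (fun n => LambdaOps.lam n x) 0 = 1 := LambdaOps.lam_zero x

theorem adamsOp_add (k : ℕ) (x y : K) : adamsOp k (x + y) = adamsOp k x + adamsOp k y := by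
  simp only [adamsOp_eq]
  rw [← g_conv (lam_seq_zero x) (lam_seq_zero y)]
  congr 1
  funext n
  exact LambdaOps.lam_add n x y

/-- `ψ^k` as an additive map. -/
noncomputable def adamsHom' (k : ℕ) : K →+ K := AddMonoidHom.mk' (adamsOp k) (adamsOp_add k)

theorem lam_zero_of_two_le (n : ℕ) (hn : 1 ≤ n) : LambdaOps.lam n (0 : K) = 0 := by
  rw [← Lambda37.coeff_lamSeries, Lambda37.lamSeries_zero, PowerSeries.coeff_one, if_neg (by omega)]

theorem adamsOp_one_of (h1 : ∀ n : ℕ, 2 ≤ n → LambdaOps.lam n (1 : K) = 0) (k : ℕ) (hk : 1 ≤ k) :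
    adamsOp k (1 : K) = 1 := by
  obtain ⟨k, rfl⟩ : ∃ i, k = i + 1 := ⟨k - 1, by omega⟩
  rw [adamsOp_eq]
  have : (fun n => LambdaOps.lam n (1 : K)) = fun n => ({1} : Multiset K).esymm n := by
    funext n
    rcases n with _ | _ | n
    · simp [LambdaOps.lam_zero, Multiset.esymm]
    · simp [LambdaOps.lam_one, Multiset.esymm, Multiset.powersetCard_one]
    · rw [h1 _ (by omega), Multiset.esymm, Multiset.powersetCard_eq_empty _ (by simp)]; simp
  rw [this, g_esymm]
  simp

theorem adamsOp_mul_of (hK : IsSpecial K) (k : ℕ) (x y : K) :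
    adamsOp k (x * y) = adamsOp k x * adamsOp k y := by
  choose P hP using Lambda37.exists_isMulPoly
  simp only [adamsOp_eq]
  rw [show (fun n => LambdaOps.lam n (x * y)) = fun n =>
    aeval (Sum.elim (fun l : Fin n => LambdaOps.lam ((l : ℕ) + 1) x)
      (fun l : Fin n => LambdaOps.lam ((l : ℕ) + 1) y)) (P n) from
    funext fun n => hK.lam_mul n (P n) (hP n) x y]
  exact g_mulPoly P hP (a := fun n => LambdaOps.lam n x) (b := fun n => LambdaOps.lam n y)
    (lam_seq_zero x) (lam_seq_zero y) k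

/-- `ψ^k` as a ring endomorphism of a special λ-ring. -/
noncomputable def adamsRing (hK : IsSpecial K) (k : ℕ) (hk : 1 ≤ k) : K →+* K where
  toFun := adamsOp k
  map_one' := adamsOp_one_of hK.lam_one_eq_zero k hk
  map_mul' := adamsOp_mul_of hK k
  map_zero' := (adamsHom' k).map_zero
  map_add' := adamsOp_add k

theorem adamsOp_adamsOp_of (hK : IsSpecial K) (k k' : ℕ) (hk : 1 ≤ k) (hk' : 1 ≤ k') (x : K) :
    adamsOp k (adamsOp k' x) = adamsOp (k * k') x := by
  choose Q hQ using exists_isCompPoly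
  rw [adamsOp_eq k' x, adamsOp_eq (k * k') x]
  refine (map_g (adamsRing hK k hk) (lam_seq_zero x) k').trans ?_
  rw [show (fun n => adamsRing hK k hk (LambdaOps.lam n x)) = fun i =>
    g (fun j => aeval (fun l : Fin (i * j) => LambdaOps.lam ((l : ℕ) + 1) x) (Q i j)) k from
    funext fun i => ?_]
  · exact g_g_compPoly Q hQ (a := fun n => LambdaOps.lam n x) (lam_seq_zero x) k k' hk hk'
  · show adamsOp k _ = _
    rw [adamsOp_eq]
    congr 1
    exact funext fun j => hK.lam_lam i j (Q i j) (hQ i j) x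

variable [Algebra ℚ K]

theorem lam_eq_fromG (x : K) (n : ℕ) : LambdaOps.lam n x = fromG (fun k => adamsOp k x) n := by
  have := congrFun (fromG_g (a := fun m => LambdaOps.lam m x) (lam_seq_zero x)) n
  rw [← this]
  exact fromG_congr n fun j _ _ => (adamsOp_eq j x).symm

theorem map_lam_of_adams {K' : Type*} [CommRing K'] [LambdaOps K'] [Algebra ℚ K'] (f : K →+* K')
    (h : ∀ k, 1 ≤ k → ∀ x, f (adamsOp k x) = adamsOp k (f x)) (n : ℕ) (x : K) :
    f (LambdaOps.lam n x) = LambdaOps.lam n (f x) := by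
  rw [lam_eq_fromG, lam_eq_fromG, map_fromG f]
  exact fromG_congr n fun j hj _ => h j hj x

theorem isSpecial_of_adams (h1 : ∀ k : ℕ, 1 ≤ k → adamsOp k (1 : K) = 1)
    (hmul : ∀ k : ℕ, 1 ≤ k → ∀ x y : K, adamsOp k (x * y) = adamsOp k x * adamsOp k y)
    (hcomp : ∀ k k' : ℕ, 1 ≤ k → 1 ≤ k' → ∀ x : K, adamsOp k (adamsOp k' x) = adamsOp (k * k') x) :
    IsSpecial K := by
  refine ⟨fun n hn => ?_, fun n P hP x y => ?_, fun i j Q hQ x => ?_⟩
  · rw [lam_eq_fromG, fromG_congr n (G' := g fun m => ({1} : Multiset K).esymm m) fun k hk _ => ?_,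
      fromG_g (esymm_zero_eq _), Multiset.esymm, Multiset.powersetCard_eq_empty _ (by simp; omega)]
    · simp
    · obtain ⟨k, rfl⟩ : ∃ i, k = i + 1 := ⟨k - 1, by omega⟩
      rw [h1 _ hk, g_esymm]
      simp
  · refine Eq.trans ?_ (aeval_mulPoly hP (a := fun m => LambdaOps.lam m x)
      (b := fun m => LambdaOps.lam m y) (lam_seq_zero x) (lam_seq_zero y)).symm
    rw [lam_eq_fromG, mulS]
    exact fromG_congr n fun k hk _ => by rw [hmul k hk, adamsOp_eq, adamsOp_eq]
  · refine Eq.trans ?_ (aeval_compPoly hQ (a := fun m => LambdaOps.lam m x) (lam_seq_zero x)).symm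
    rw [lam_eq_fromG, compS]
    refine fromG_congr j fun m hm _ => ?_
    let Ψ : K →+* K :=
      { toFun := adamsOp m
        map_one' := h1 m hm
        map_mul' := hmul m hm
        map_zero' := (adamsHom' m).map_zero
        map_add' := adamsOp_add m }
    change Ψ (LambdaOps.lam i x) = _
    rw [map_lam_of_adams Ψ (fun k hk y => ?_), lam_eq_fromG, frob]
    · refine fromG_congr i fun k hk _ => ?_
      change adamsOp k (adamsOp m x) = _
      rw [hcomp k m hk hm, adamsOp_eq, mul_comm k m]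
    · change adamsOp m (adamsOp k y) = adamsOp k (adamsOp m y)
      rw [hcomp m k hm hk, hcomp k m hk hm, mul_comm]

end Special

end Groth.Agent.Lam38
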