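import Groth.Agent.Lam38.Fil

/-!
`γ`-operations on the γ-filtration and on multiples of `γ^d` of a rank `d` element.
-/

set_option autoImplicit false

universe u v

namespace Groth.Agent.Lam38

open Finset LambdaRing
open MvPolynomial (X constantCoeff)
open scoped Pointwise

section Gen

variable {A : Type v} [CommRing A] [LambdaOps A]

theorem gamma_add_sub_mem {J : Ideal A} {z w : A} (hz : ∀ j, 1 ≤ j → gamma j z ∈ J)
    (hw : ∀ j, 1 ≤ j → gamma j w ∈ J) {n : ℕ} (hn : 1 ≤ n) :
    gamma n (z + w) - gamma n z - gamma n w ∈ J * J := by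
  obtain ⟨n, rfl⟩ : ∃ t, n = t + 1 := ⟨n - 1, by omega⟩
  rw [Lambda37.gamma_add', Finset.sum_range_succ', Finset.sum_range_succ, Nat.sub_self,
    Lambda37.gamma_zero, Lambda37.gamma_zero, mul_one, one_mul, Nat.sub_zero, add_sub_right_comm,
    add_sub_cancel_right, add_sub_cancel_right]
  exact Ideal.sum_mem _ fun k hk => Ideal.mul_mem_mul (hz _ (by omega))
    (hw _ (by have := Finset.mem_range.mp hk; omega))

end Gen

/-- Free generators and one generator `none` of length `dd`. -/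
def optD (κ : Type) (dd : ℕ∞) : Option κ → ℕ∞
  | none => dd
  | some _ => ⊤

section Rep

variable {K : Type u} [CommRing K] [LambdaOps K]
variable {A : Type v} [CommRing A] [LambdaOps A] [Algebra K A]
variable (ε : A →ₐ[K] K)

theorem ev_mem_fil {ι : Type} {D : ι → ℕ∞} {x : ι → A} (hx : ∀ s, ε (x s) = 0) {n : ℕ}
    {p : MvPolynomial (Var D) ℤ} (hp : p ∈ WI ℤ (wt (D := D)) n) :
    ev D x p ∈ gammaFil (ε : A →+* K) n :=
  ev_mem (fil_mult ε) x (fun v => gamma_mem_fil (hx v.s) (v.j + 1)) hp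

/-- A generator of the filtration, and its multiples, as universal expressions. -/
theorem exists_rep (dd : ℕ∞) (u : A) (hu : ε u = 0)
    (hu' : ∀ j : ℕ, ¬ (j : ℕ∞) < dd → gamma (j + 1) u = 0) (a : A) (ha : ε a = 0)
    (l : List (ℕ × A)) (hl : ∀ p ∈ l, ε p.2 = 0) :
    ∃ (κ : Type) (x : Option κ → A) (p₀ p₁ : MvPolynomial (Var (optD κ dd)) ℤ),
      x none = u ∧ (∀ s, ε (x s) = 0) ∧
      (∀ s (j : ℕ), ¬ (j : ℕ∞) < optD κ dd s → gamma (j + 1) (x s) = 0) ∧
      p₀ ∈ WI ℤ (wt (D := optD κ dd)) (l.map Prod.fst).sum ∧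
      p₁ ∈ WI ℤ (wt (D := optD κ dd)) ((l.map Prod.fst).sum + 1) ∧
      ev (optD κ dd) x p₀ = (l.map fun p => gamma p.1 p.2).prod ∧
      ev (optD κ dd) x p₁ = a * (l.map fun p => gamma p.1 p.2).prod := by
  let x : Option (Option (Fin l.length)) → A
    | none => u
    | some none => a
    | some (some k) => (l.get k).2
  have hx0 : ∀ s, ε (x s) = 0 := by
    rintro (_ | _ | k)
    · exact hu
    · exact ha
    · exact hl _ (List.get_mem l k)
  set D := optD (Option (Fin l.length)) dd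
  have hx : ∀ s (j : ℕ), ¬ (j : ℕ∞) < D s → gamma (j + 1) (x s) = 0 := by
    rintro (_ | s) j h
    · exact hu' j h
    · exact absurd (ENat.natCast_lt_top j) h
  let p₀ : MvPolynomial (Var D) ℤ := ∏ k : Fin l.length, c D ℤ (some (some k)) (l.get k).1
  have hp : ev D x p₀ = (l.map fun p => gamma p.1 p.2).prod := by
    simp only [p₀, map_prod, ev_c x hx]
    have e : l.map (fun p => gamma p.1 p.2) =
        List.ofFn fun k : Fin l.length => gamma (l.get k).1 (l.get k).2 := by
      conv_lhs => rw [← List.ofFn_get l, List.map_ofFn]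
      rfl
    rw [e, List.prod_ofFn]
  have hw : p₀ ∈ WI ℤ (wt (D := D)) (l.map Prod.fst).sum := by
    have e : (l.map Prod.fst).sum = ∑ k : Fin l.length, (l.get k).1 := by
      rw [← List.sum_ofFn]
      conv_lhs => rw [← List.ofFn_get l, List.map_ofFn]
      rfl
    rw [e]
    exact (WI_mult _).prod _ _ _ fun k _ => c_mem_WI _ _ _
  refine ⟨_, x, p₀, c D ℤ (some none) 1 * p₀, rfl, hx0, hx, hw, ?_, hp, ?_⟩
  · rw [add_comm]
    exact (WI_mult _).mul (c_mem_WI _ _ _) hw
  · rw [map_mul, ev_c x hx, hp, Lambda37.gamma_one]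

variable [BinomialRing K]

/-- `γ^i` preserves `Fil^m`, and `γ^m` is `(-1)^(m-1) (m-1)!` modulo `Fil^(m+1)` on it. -/
theorem gamma_fil (hKb : IsBinomial K) (hA : IsSpecial A) (hL : IsLambdaAlg K A) {m : ℕ} (hm : 1 ≤ m)
    {z : A} (hz : z ∈ gammaFil (ε : A →+* K) m) :
    (∀ i, 1 ≤ i → gamma i z ∈ gammaFil (ε : A →+* K) m) ∧
      gamma m z - (-1) ^ (m - 1) * ((m - 1).factorial : A) * z ∈ gammaFil (ε : A →+* K) (m + 1) := by
  set F := gammaFil (ε : A →+* K)
  have hF : Mult F := fil_mult ε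
  set C₀ : A := (-1) ^ (m - 1) * ((m - 1).factorial : A)
  let Q : A → Prop := fun z => (∀ i, 1 ≤ i → gamma i z ∈ F m) ∧ gamma m z - C₀ * z ∈ F (m + 1)
  have hJ : F m * F m ≤ F (m + 1) := Ideal.mul_le.mpr fun _ hx _ hy => hF.anti (by omega) (hF.mul hx hy)
  have hQadd : ∀ z w, Q z → Q w → Q (z + w) := by
    intro z w hz hw
    refine ⟨fun i hi => ?_, ?_⟩
    · have := hF.anti (Nat.le_succ m) (hJ (gamma_add_sub_mem hz.1 hw.1 hi))
      rw [show gamma i (z + w) = (gamma i (z + w) - gamma i z - gamma i w) + (gamma i z + gamma i w) by ring]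
      exact add_mem this (add_mem (hz.1 i hi) (hw.1 i hi))
    · rw [show gamma m (z + w) - C₀ * (z + w) = (gamma m (z + w) - gamma m z - gamma m w) +
        ((gamma m z - C₀ * z) + (gamma m w - C₀ * w)) by ring]
      exact add_mem (hJ (gamma_add_sub_mem hz.1 hw.1 hm)) (add_mem hz.2 hw.2)
  have hz' : z ∈ AddSubmonoid.closure ((Set.univ : Set A) •
      {y | ∃ l : List (ℕ × A), (∀ p ∈ l, (ε : A →+* K) p.2 = 0) ∧ m ≤ (l.map Prod.fst).sum ∧
        y = (l.map fun p => gamma p.1 p.2).prod}) := by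
    rw [← Submodule.span_eq_closure]
    exact hz
  show Q z
  clear hz
  induction hz' using AddSubmonoid.closure_induction with
  | mem w hw =>
    obtain ⟨a, -, y, ⟨l, h1, h2, rfl⟩, rfl⟩ := Set.mem_smul.mp hw
    obtain ⟨κ, x, p₀, p₁, -, hx0, hx, hw0, hw1, he0, he1⟩ :=
      exists_rep ε 0 0 (map_zero ε) (fun j _ => gamma_zero_succ j) (a - algebraMap K A (ε a))
        (aug_sub a) l h1
    have hw0' : p₀ ∈ WI ℤ (wt (D := optD κ 0)) m := (WI_mult _).anti h2 hw0
    have hw1' : p₁ ∈ WI ℤ (wt (D := optD κ 0)) (m + 1) := (WI_mult _).anti (by omega) hw1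
    set y := (l.map fun p => gamma p.1 p.2).prod
    have hQy : Q y := by
      refine ⟨fun i hi => ?_, ?_⟩
      · rw [← he0, ← ev_gamma hA x hx]
        exact ev_mem_fil ε hx0 (gammaZ_mem_of hw0' i hi)
      · have := ev_mem_fil ε hx0 (gammaZ_congr hm hw0')
        rw [map_sub, ev_gamma hA x hx, map_mul, map_mul, map_pow, map_neg, map_one, map_natCast, he0] at this
        exact this
    have hsub : ∀ i, 1 ≤ i → gamma i ((a - algebraMap K A (ε a)) * y) ∈ F (m + 1) := fun i hi => by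
      rw [← he1, ← ev_gamma hA x hx]
      exact ev_mem_fil ε hx0 (gammaZ_mem_of hw1' i hi)
    have hQa : Q ((a - algebraMap K A (ε a)) * y) := by
      refine ⟨fun i hi => hF.anti (Nat.le_succ m) (hsub i hi), sub_mem (hsub m hm) (Ideal.mul_mem_left _ _ ?_)⟩
      rw [← he1]
      exact ev_mem_fil ε hx0 hw1'
    have hQc : Q (algebraMap K A (ε a) * y) := by
      refine ⟨fun i hi => gamma_smul_mem_ideal hKb hA hL _ hQy.1 i hi, ?_⟩
      rw [show gamma m (algebraMap K A (ε a) * y) - C₀ * (algebraMap K A (ε a) * y) =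
        (gamma m (algebraMap K A (ε a) * y) - algebraMap K A (ε a) * gamma m y) +
          algebraMap K A (ε a) * (gamma m y - C₀ * y) by ring]
      exact add_mem (hJ (gamma_smul_sub_mem hKb hA hL _ hQy.1 m hm)) (Ideal.mul_mem_left _ _ hQy.2)
    rw [smul_eq_mul, show a * y = algebraMap K A (ε a) * y + (a - algebraMap K A (ε a)) * y by ring]
    exact hQadd _ _ hQc hQa
  | zero =>
    refine ⟨fun i hi => ?_, ?_⟩
    · obtain ⟨i, rfl⟩ : ∃ t, i = t + 1 := ⟨i - 1, by omega⟩
      rw [gamma_zero_succ]; exact zero_mem _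
    · obtain ⟨n, rfl⟩ : ∃ t, m = t + 1 := ⟨m - 1, by omega⟩
      rw [gamma_zero_succ, mul_zero, sub_zero]; exact zero_mem _
  | add z w _ _ hz hw => exact hQadd z w hz hw

/-- `γ^p` of multiples of `E = γ^d u`, `u` of length `d`, by elements of `Fil^i`. -/
theorem gamma_mul_top (hKb : IsBinomial K) (hA : IsSpecial A) (hL : IsLambdaAlg K A) {d : ℕ} (hd : 1 ≤ d)
    (u : A) (hu : ε u = 0) (hu' : ∀ n, d < n → gamma n u = 0) {i : ℕ} {z : A}
    (hz : z ∈ gammaFil (ε : A →+* K) i) :
    (∀ p, 1 ≤ p → gamma p (z * gamma d u) ∈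
        Ideal.span {gamma d u} * gammaFil (ε : A →+* K) (max (p - d) i)) ∧
      gamma (d + i) (z * gamma d u) - (-1) ^ (d + i - 1) * ((d + i - 1).factorial : A) * (z * gamma d u) ∈
        Ideal.span {gamma d u} * gammaFil (ε : A →+* K) (i + 1) := by
  set F := gammaFil (ε : A →+* K)
  have hF : Mult F := fil_mult ε
  set E := gamma d u
  have hE : Ideal.span {E} ≤ F d := (Ideal.span_singleton_le_iff_mem _).mpr (gamma_mem_fil hu d)
  set C₀ : A := (-1) ^ (d + i - 1) * ((d + i - 1).factorial : A)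
  let T : ℕ → Ideal A := fun n => if n = 0 then ⊤ else Ideal.span {E} * F (max (n - d) i)
  have hTanti : ∀ {a b : ℕ}, a ≤ b → T b ≤ T a := by
    intro a b hab
    simp only [T]
    rcases Nat.eq_zero_or_pos a with rfl | ha
    · simp
    · rw [if_neg (by omega), if_neg (by omega)]
      exact Ideal.mul_mono_right (hF.anti (by omega))
  have hsq : ∀ a b : ℕ, (Ideal.span {E} * F a) * (Ideal.span {E} * F b) ≤ Ideal.span {E} * F (d + (a + b)) := by
    intro a b
    rw [show (Ideal.span {E} * F a) * (Ideal.span {E} * F b) = Ideal.span {E} * (Ideal.span {E} * (F a * F b)) by ring]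
    refine Ideal.mul_mono_right ?_
    exact (Ideal.mul_mono hE (Ideal.mul_le.mpr fun _ hx _ hy => hF.mul hx hy)).trans
      (Ideal.mul_le.mpr fun _ hx _ hy => hF.mul hx hy)
  have hT : Mult T :=
    { zero := if_pos rfl
      anti := hTanti
      mul := fun {a b x y} hx hy => by
        rcases Nat.eq_zero_or_pos a with rfl | ha
        · rw [Nat.zero_add]; exact Ideal.mul_mem_left _ x hy
        rcases Nat.eq_zero_or_pos b with rfl | hb
        · exact Ideal.mul_mem_right y _ hx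
        simp only [T, if_neg ha.ne', if_neg hb.ne'] at hx hy
        simp only [T, if_neg (show a + b ≠ 0 by omega)]
        exact Ideal.mul_mono_right (hF.anti (by omega)) (hsq _ _ (Ideal.mul_mem_mul hx hy)) }
  have hTmem : ∀ {n : ℕ} {x : A}, 1 ≤ n → (x ∈ T n ↔ x ∈ Ideal.span {E} * F (max (n - d) i)) := by
    intro n x hn
    simp only [T, if_neg (show n ≠ 0 by omega)]
  have hJ : (Ideal.span {E} * F i) * (Ideal.span {E} * F i) ≤ Ideal.span {E} * F (i + 1) :=
    (hsq i i).trans (Ideal.mul_mono_right (hF.anti (by omega)))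
  let R : A → Prop := fun z => Good T (z * E) ∧
    gamma (d + i) (z * E) - C₀ * (z * E) ∈ Ideal.span {E} * F (i + 1)
  have hRJ : ∀ {z}, R z → ∀ j, 1 ≤ j → gamma j (z * E) ∈ Ideal.span {E} * F i := fun {z} h j hj =>
    Ideal.mul_mono_right (hF.anti (le_max_right _ _)) ((hTmem hj).mp (h.1 j))
  have hRadd : ∀ z w, R z → R w → R (z + w) := by
    intro z w hz hw
    refine ⟨by rw [add_mul]; exact Good.add hT hz.1 hw.1, ?_⟩
    rw [add_mul, show gamma (d + i) (z * E + w * E) - C₀ * (z * E + w * E) =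
      (gamma (d + i) (z * E + w * E) - gamma (d + i) (z * E) - gamma (d + i) (w * E)) +
      ((gamma (d + i) (z * E) - C₀ * (z * E)) + (gamma (d + i) (w * E) - C₀ * (w * E))) by ring]
    exact add_mem (hJ (gamma_add_sub_mem (hRJ hz) (hRJ hw) (by omega))) (add_mem hz.2 hw.2)
  have hz' : z ∈ AddSubmonoid.closure ((Set.univ : Set A) •
      {y | ∃ l : List (ℕ × A), (∀ p ∈ l, (ε : A →+* K) p.2 = 0) ∧ i ≤ (l.map Prod.fst).sum ∧
        y = (l.map fun p => gamma p.1 p.2).prod}) := by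
    rw [← Submodule.span_eq_closure]
    exact hz
  suffices h : R z from ⟨fun p hp => (hTmem hp).mp (h.1 p), h.2⟩
  clear hz
  induction hz' using AddSubmonoid.closure_induction with
  | mem w hw =>
    obtain ⟨a, -, y, ⟨l, h1, h2, rfl⟩, rfl⟩ := Set.mem_smul.mp hw
    have hu'' : ∀ j : ℕ, ¬ (j : ℕ∞) < (d : ℕ∞) → gamma (j + 1) u = 0 := fun j hj =>
      hu' _ (by rw [Nat.cast_lt] at hj; omega)
    obtain ⟨κ, x, p₀, p₁, hxn, hx0, hx, hw0, hw1, he0, he1⟩ :=
      exists_rep ε (d : ℕ∞) u hu hu'' (a - algebraMap K A (ε a)) (aug_sub a) l h1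
    let v : Var (optD κ (d : ℕ∞)) := ⟨none, d - 1, show ((d - 1 : ℕ) : ℕ∞) < (d : ℕ∞) by exact_mod_cast (show d - 1 < d by omega)⟩
    have hv : ¬ ((v.j + 1 : ℕ) : ℕ∞) < (optD κ (d : ℕ∞)) v.s := by
      show ¬ (((d - 1) + 1 : ℕ) : ℕ∞) < (d : ℕ∞)
      rw [Nat.cast_lt]; omega
    have hwv : wt v = d := by show d - 1 + 1 = d; omega
    have hevv : ev (optD κ (d : ℕ∞)) x (X v) = E := by
      rw [ev, MvPolynomial.aeval_X]
      show gamma (d - 1 + 1) (x none) = E
      rw [hxn, show d - 1 + 1 = d by omega]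
    -- universal statement
    have huniv : ∀ (q : MvPolynomial (Var (optD κ (d : ℕ∞))) ℤ) (w : ℕ), i ≤ w → q ∈ WI ℤ (wt (D := optD κ (d : ℕ∞))) w →
        (∀ p, 1 ≤ p → gamma p (ev (optD κ (d : ℕ∞)) x q * E) ∈ Ideal.span {E} * F (max (p - d) w)) ∧
        gamma (d + w) (ev (optD κ (d : ℕ∞)) x q * E) - (-1) ^ (d + w - 1) * ((d + w - 1).factorial : A) * (ev (optD κ (d : ℕ∞)) x q * E) ∈
          Ideal.span {E} * F (w + 1) := by
      intro q w _ hq
      have hzw : q * X v ∈ WI ℤ (wt (D := optD κ (d : ℕ∞))) (w + d) := by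
        have := (WI_mult (wt (D := optD κ (d : ℕ∞)))).mul hq (X_mem_WI (R := ℤ) (wt (D := optD κ (d : ℕ∞))) v)
        rwa [hwv] at this
      have hcc : constantCoeff (q * X v) = 0 := by rw [map_mul, MvPolynomial.constantCoeff_X, mul_zero]
      have hconv : ∀ (f : MvPolynomial (Var (optD κ (d : ℕ∞))) ℤ) (n : ℕ), X v ∣ f → f ∈ WI ℤ (wt (D := optD κ (d : ℕ∞))) n →
          ev (optD κ (d : ℕ∞)) x f ∈ Ideal.span {E} * F (n - d) := by
        rintro _ n ⟨r, rfl⟩ hf
        have := WI_of_X_mul hf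
        rw [hwv] at this
        rw [map_mul, hevv]
        exact Ideal.mul_mem_mul (Ideal.mem_span_singleton_self E) (ev_mem_fil ε hx0 this)
      refine ⟨fun p hp => ?_, ?_⟩
      · have hmem : gamma p (q * X v) ∈ WI ℤ (wt (D := optD κ (d : ℕ∞))) (max p (w + d)) := by
          rcases le_total p (w + d) with h | h
          · rw [max_eq_right h]; exact gammaZ_mem_of hzw p hp
          · rw [max_eq_left h]; exact gammaZ_mem hcc p
        have := hconv _ _ (X_dvd_gammaZ hv (dvd_mul_left _ _) hp) hmem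
        rw [ev_gamma hA x hx, map_mul, hevv, show max p (w + d) - d = max (p - d) w by omega] at this
        exact this
      · have := hconv _ _ (dvd_sub (X_dvd_gammaZ hv (dvd_mul_left (X v) q) (show 1 ≤ d + w by omega))
          (dvd_mul_of_dvd_right (dvd_mul_left (X v) q)
            ((-1) ^ (d + w - 1) * ((d + w - 1).factorial : MvPolynomial (Var (optD κ (d : ℕ∞))) ℤ))))
          (gammaZ_congr (show 1 ≤ d + w by omega) (by rwa [add_comm d w]))
        rw [map_sub, ev_gamma hA x hx, map_mul, map_mul, map_mul, map_mul, map_pow, map_neg, map_one, map_natCast,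
          hevv, show d + w + 1 - d = w + 1 by omega] at this
        exact this
    set y := (l.map fun p => gamma p.1 p.2).prod
    have hRy : R y := by
      obtain ⟨hA1, hA2⟩ := huniv p₀ i le_rfl ((WI_mult _).anti h2 hw0)
      rw [he0] at hA1 hA2
      refine ⟨fun p => ?_, hA2⟩
      rcases p with _ | p
      · exact hT.mem_zero _
      · exact (hTmem (by omega)).mpr (hA1 _ (by omega))
    have hRa : R ((a - algebraMap K A (ε a)) * y) := by
      obtain ⟨hA1, -⟩ := huniv p₁ (i + 1) (by omega) ((WI_mult _).anti (by omega) hw1)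
      rw [he1] at hA1
      refine ⟨fun p => ?_, sub_mem ?_ (Ideal.mul_mem_left _ _ ?_)⟩
      · rcases p with _ | p
        · exact hT.mem_zero _
        · exact (hTmem (by omega)).mpr (Ideal.mul_mono_right (hF.anti (by omega)) (hA1 _ (by omega)))
      · exact Ideal.mul_mono_right (hF.anti (by omega)) (hA1 _ (by omega))
      · rw [mul_comm _ E]
        refine Ideal.mul_mem_mul (Ideal.mem_span_singleton_self E) ?_
        rw [← he1]
        exact hF.anti (by omega) (ev_mem_fil ε hx0 hw1)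
    have hRc : R (algebraMap K A (ε a) * y) := by
      refine ⟨by rw [mul_assoc]; exact good_smul hKb hA hL hT _ hRy.1, ?_⟩
      rw [mul_assoc, show gamma (d + i) (algebraMap K A (ε a) * (y * E)) - C₀ * (algebraMap K A (ε a) * (y * E)) =
        (gamma (d + i) (algebraMap K A (ε a) * (y * E)) - algebraMap K A (ε a) * gamma (d + i) (y * E)) +
          algebraMap K A (ε a) * (gamma (d + i) (y * E) - C₀ * (y * E)) by ring]
      exact add_mem (hJ (gamma_smul_sub_mem hKb hA hL _ (hRJ hRy) _ (by omega)))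
        (Ideal.mul_mem_left _ _ hRy.2)
    rw [smul_eq_mul, show a * y = algebraMap K A (ε a) * y + (a - algebraMap K A (ε a)) * y by ring]
    exact hRadd _ _ hRc hRa
  | zero =>
    refine ⟨by rw [zero_mul]; exact Good.zero hT, ?_⟩
    obtain ⟨n, hn⟩ : ∃ t, d + i = t + 1 := ⟨d + i - 1, by omega⟩
    rw [hn, zero_mul, gamma_zero_succ, mul_zero, sub_zero]
    exact zero_mem _
  | add z w _ _ hz hw => exact hRadd z w hz hw

end Rep

section Dvd

variable {A : Type v} [CommRing A] [LambdaOps A]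

/-- `λ^p (x · γ^d u)` is divisible by `γ^d u` when `u` has length `d`. -/
theorem top_dvd_lam (hA : IsSpecial A) {d : ℕ} (hd : 1 ≤ d) (u : A)
    (hu : ∀ n, d < n → gamma n u = 0) (x : A) {p : ℕ} (hp : 1 ≤ p) :
    gamma d u ∣ LambdaOps.lam p (x * gamma d u) := by
  let D : Option Unit → ℕ∞ := optD Unit (d : ℕ∞)
  let xs : Option Unit → A
    | none => u
    | some _ => x
  have hx : ∀ s (j : ℕ), ¬ (j : ℕ∞) < D s → gamma (j + 1) (xs s) = 0 := by
    rintro (_ | s) j h
    · exact hu _ (by have : ¬ (j : ℕ∞) < (d : ℕ∞) := h; rw [Nat.cast_lt] at this; omega)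
    · exact absurd (ENat.natCast_lt_top j) h
  let v : Var D := ⟨none, d - 1, show ((d - 1 : ℕ) : ℕ∞) < (d : ℕ∞) by exact_mod_cast (show d - 1 < d by omega)⟩
  have hv : ¬ ((v.j + 1 : ℕ) : ℕ∞) < D v.s := by
    show ¬ (((d - 1) + 1 : ℕ) : ℕ∞) < (d : ℕ∞)
    rw [Nat.cast_lt]; omega
  have hevv : ev D xs (X v) = gamma d u := by
    rw [ev, MvPolynomial.aeval_X]
    show gamma (d - 1 + 1) u = _
    rw [show d - 1 + 1 = d by omega]
  have hdvd : ∀ n, X v ∣ LambdaOps.lam (n + 1) (gen D ℤ (some ()) * X v) := by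
    intro n
    induction n using Nat.strong_induction_on with
    | _ n ih =>
      rw [lam_succ_eq_gamma]
      refine dvd_sub (X_dvd_gammaZ hv (dvd_mul_left _ _) (by omega)) (Finset.dvd_sum fun j hj => ?_)
      exact dvd_mul_of_dvd_right (ih j (Finset.mem_range.mp hj)) _
  obtain ⟨n, rfl⟩ : ∃ t, p = t + 1 := ⟨p - 1, by omega⟩
  have := _root_.map_dvd (ev D xs) (hdvd n)
  rw [ev_lam hA xs hx, map_mul, hevv, gen, ev_c xs hx, Lambda37.gamma_one] at this
  exact this

end Dvd

end Groth.Agent.Lam38
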