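import Groth.Agent.Lam38.UnivZ
import Groth.Agent.Lam38.KQ

/-!
`γ^i (c • y)` for a scalar `c` in a binomial ring.
-/

set_option autoImplicit false

universe u v

namespace Groth.Agent.Lam38

open Finset MvPolynomial LambdaRing

/-- One generator without relation. -/
abbrev D1 : Unit → ℕ∞ := fun _ => ⊤

variable {K : Type u} [CommRing K] [LambdaOps K] [BinomialRing K]
variable {A : Type v} [CommRing A] [LambdaOps A] [Algebra K A]

omit [LambdaOps A] [CommRing A] [Algebra K A] in
theorem pow_mult {R : Type*} [CommRing R] (J : Ideal R) : Mult fun n : ℕ => J ^ n where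
  zero := by rw [pow_zero, Ideal.one_eq_top]
  anti := fun h => Ideal.pow_le_pow_right h
  mul := fun hx hy => by rw [pow_add]; exact Ideal.mul_mem_mul hx hy

theorem exists_scalarPoly_aux {Q : Type u} [CommRing Q] [Algebra ℚ Q] (φ : K →+* Q)
    (hφ : Function.Injective φ) (hKb : IsBinomial K) (hA : IsSpecial A) (hL : IsLambdaAlg K A)
    (c₀ : K) (y : A) (i : ℕ) (hi : 1 ≤ i) :
    ∃ p : MvPolynomial (Var D1) K,
      aeval (fun v : Var D1 => gamma (v.j + 1) y) p = gamma i (algebraMap K A c₀ * y) ∧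
      p ∈ WI K (wt (D := D1)) i ∧ p ∈ WI K (fun _ : Var D1 => 1) 1 ∧
      p - C c₀ * c D1 K () i ∈ WI K (fun _ : Var D1 => 1) 2 := by
  choose P hP using Lambda37.exists_isMulPoly
  let LK : ℕ → MvPolynomial (Var D1) K := fun m =>
    MvPolynomial.map (Int.castRingHom K) (LambdaOps.lam m (gen D1 ℤ ()))
  let a : ℕ → MvPolynomial (Var D1) K := fun m =>
    aeval (Sum.elim (fun l : Fin m => C (Ring.choose c₀ ((l : ℕ) + 1))) (fun l : Fin m => LK ((l : ℕ) + 1))) (P m)
  let p : MvPolynomial (Var D1) K := toGamma a i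
  let eA : MvPolynomial (Var D1) K →ₐ[K] A := aeval fun v : Var D1 => gamma (v.j + 1) y
  have hx : ∀ (s : Unit) (j : ℕ), ¬ (j : ℕ∞) < D1 s → gamma (j + 1) ((fun _ : Unit => y) s) = 0 :=
    fun s j h => absurd (ENat.natCast_lt_top j) h
  have heA : ∀ q : MvPolynomial (Var D1) ℤ,
      eA (MvPolynomial.map (Int.castRingHom K) q) = ev D1 (fun _ : Unit => y) q := by
    intro q
    induction q using MvPolynomial.induction_on with
    | C z => simp [eA, ev]
    | add p q hp hq => simp only [map_add, hp, hq]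
    | mul_X p u hp => simp only [map_mul, MvPolynomial.map_X, hp, eA, ev, aeval_X]
  have hLK : ∀ m, eA (LK m) = LambdaOps.lam m y := fun m => by
    rw [heA, ev_lam hA _ hx, gen, ev_c _ hx, Lambda37.gamma_one]
  have hev : eA p = gamma i (algebraMap K A c₀ * y) := by
    rw [gamma_eq]
    show eA (toGamma a i) = _
    rw [map_toGamma eA]
    congr 1
    funext m
    rw [hA.lam_mul m (P m) (hP m)]
    simp only [a]
    rw [map_aevalZ]
    congr 2
    funext s
    rcases s with l | l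
    · simp only [Sum.elim_inl]
      rw [← hL, hKb]
      exact eA.commutes _
    · exact hLK _
  -- compute `p` over `K ⊗ ℚ`
  let M : MvPolynomial (Var D1) K →+* MvPolynomial (Var D1) Q := MvPolynomial.map φ
  let ρ : MvPolynomial (Var D1) ℚ →+* MvPolynomial (Var D1) Q := MvPolynomial.map (algebraMap ℚ Q)
  let LQ : ℕ → MvPolynomial (Var D1) Q := fun m => ρ (LambdaOps.lam m (gen D1 ℚ ()))
  have hMLK : ∀ m, M (LK m) = LQ m := fun m => by
    show MvPolynomial.map φ (MvPolynomial.map _ _) = _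
    rw [MvPolynomial.map_map]
    show _ = ρ _
    rw [← show incQ D1 (gen D1 ℤ ()) = gen D1 ℚ () from map_c _ _ _, ← incQ_lam]
    show _ = MvPolynomial.map _ (MvPolynomial.map _ _)
    rw [MvPolynomial.map_map]
    congr 2
    exact RingHom.ext_int _ _
  have hLQ0 : LQ 0 = 1 := by simp only [LQ, LambdaOps.lam_zero, map_one]
  have hgam : toGamma LQ = c D1 Q () := funext fun n => by
    rw [← map_toGamma ρ (fun m => LambdaOps.lam m (gen D1 ℚ ())), ← gamma_eq, gamma_gen]
    exact map_c _ _ _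
  let Ch : ℕ → MvPolynomial (Var D1) Q := fun m => C (φ (Ring.choose c₀ m))
  have hCh0 : Ch 0 = 1 := by simp [Ch]
  have hgCh : ∀ k, g Ch (k + 1) = C (φ c₀) := fun k => by
    rw [show Ch = fun m => ((C : Q →+* MvPolynomial (Var D1) Q).comp φ) (Ring.choose c₀ m) from rfl,
      ← map_g _ (a := fun m => Ring.choose c₀ m) (Ring.choose_zero_right c₀), g_choose]
    rfl
  let F : ℕ → MvPolynomial (Var D1) Q := fromG fun j => C (φ c₀) * g (c D1 Q ()) j
  have hMp : M p = F i := by
    show M (toGamma a i) = _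
    rw [map_toGamma M, show (fun m => M (a m)) = mulS Ch LQ from funext fun m => ?_]
    · refine congrFun (seq_ext (toGamma_zero _) (fromG_zero _) fun j => ?_) i
      rw [g_toGamma (a := mulS Ch LQ) (fromG_zero _), g_fromG, ← hgam, g_toGamma hLQ0, ← bT_mul_left]
      refine bT_congr _ fun k _ => ?_
      rcases k with _ | k
      · simp [g_zero]
      · rw [mulS, g_fromG, hgCh]
    · show M (aeval _ (P m)) = _
      rw [@map_aevalZ _ _ _ _ _ _ _ (Ring.toIntAlgebra _), ← aeval_mulPoly (hP m) hCh0 hLQ0]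
      congr 2
      funext s
      rcases s with l | l
      · exact MvPolynomial.map_C _ _
      · exact hMLK _
  set one' : Var D1 → ℕ := fun _ => 1
  have hJ : ∀ j, 1 ≤ j → C (φ c₀) * g (c D1 Q ()) j ∈ WI Q one' 1 := fun j _ =>
    Ideal.mul_mem_left _ _ (g_mem_ideal (c_zero _ _) (fun n hn => by
      obtain ⟨n, rfl⟩ : ∃ t, n = t + 1 := ⟨n - 1, by omega⟩
      simp only [c]
      split_ifs with h
      · exact X_mem_WI one' _
      · exact zero_mem _) j)
  obtain ⟨n, rfl⟩ : ∃ t, i = t + 1 := ⟨i - 1, by omega⟩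
  refine ⟨p, hev, ?_, ?_, ?_⟩
  · rw [← map_mem_WI_iff hφ]
    show M p ∈ _
    rw [hMp]
    exact (WI_mult _).fromG_mem (fun j _ => Ideal.mul_mem_left _ _
      ((WI_mult _).g_mem (c_zero _ _) (fun j _ => c_mem_WI _ _ _) j)) _
  · rw [← map_mem_WI_iff hφ]
    show M p ∈ _
    rw [hMp]
    exact fromG_mem_ideal hJ n
  · rw [← map_mem_WI_iff hφ, map_sub, map_mul, MvPolynomial.map_C, map_c]
    show M p - _ ∈ _
    rw [hMp]
    refine mem_of_succ_mul (n := n) ?_
    have h1 := fromG_sub hJ n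
    have h2 := fromG_sub (J := WI Q one' 1) (G := g (c D1 Q ())) (fun j hj => g_mem_ideal (c_zero _ _) (fun m hm => by
      obtain ⟨m, rfl⟩ : ∃ t, m = t + 1 := ⟨m - 1, by omega⟩
      simp only [c]
      split_ifs with h
      · exact X_mem_WI one' _
      · exact zero_mem _) j) n
    rw [fromG_g (c_zero _ _)] at h2
    have h3 := sub_mem h1 (Ideal.mul_mem_left _ (C (φ c₀)) h2)
    refine WI_mul_le one' 1 1 ?_
    convert h3 using 1
    ring

theorem exists_scalarPoly (hKb : IsBinomial K) (hA : IsSpecial A) (hL : IsLambdaAlg K A) (c₀ : K)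
    (y : A) (i : ℕ) (hi : 1 ≤ i) :
    ∃ p : MvPolynomial (Var D1) K,
      aeval (fun v : Var D1 => gamma (v.j + 1) y) p = gamma i (algebraMap K A c₀ * y) ∧
      p ∈ WI K (wt (D := D1)) i ∧ p ∈ WI K (fun _ : Var D1 => 1) 1 ∧
      p - C c₀ * c D1 K () i ∈ WI K (fun _ : Var D1 => 1) 2 :=
  exists_scalarPoly_aux (algebraMap K (KQ K))
    (@KQ_injective K _ (inferInstance : BinomialRing K).toIsAddTorsionFree) hKb hA hL c₀ y i hi

section Cor

variable (hKb : IsBinomial K) (hA : IsSpecial A) (hL : IsLambdaAlg K A)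
include hKb hA hL

theorem gamma_smul_mem {T : ℕ → Ideal A} (hT : Mult T) (c₀ : K) {y : A}
    (h : ∀ j, 1 ≤ j → gamma j y ∈ T j) (i : ℕ) : gamma i (algebraMap K A c₀ * y) ∈ T i := by
  rcases i with _ | i
  · exact hT.mem_zero _
  obtain ⟨p, hp, h1, -, -⟩ := exists_scalarPoly hKb hA hL c₀ y (i + 1) (by omega)
  rw [← hp]
  exact aeval_mem_of_WI hT (x := fun v : Var D1 => gamma (v.j + 1) y)
    (w := wt (D := D1)) (fun v => h (v.j + 1) (Nat.succ_pos _)) h1

theorem gamma_smul_mem_ideal {J : Ideal A} (c₀ : K) {y : A} (h : ∀ j, 1 ≤ j → gamma j y ∈ J) (i : ℕ)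
    (hi : 1 ≤ i) : gamma i (algebraMap K A c₀ * y) ∈ J := by
  obtain ⟨p, hp, -, h1, -⟩ := exists_scalarPoly hKb hA hL c₀ y i hi
  rw [← hp]
  simpa using aeval_mem_of_WI (pow_mult J) (x := fun v : Var D1 => gamma (v.j + 1) y)
    (fun v => by simpa using h (v.j + 1) (by omega)) h1

theorem gamma_smul_sub_mem {J : Ideal A} (c₀ : K) {y : A} (h : ∀ j, 1 ≤ j → gamma j y ∈ J) (i : ℕ)
    (hi : 1 ≤ i) : gamma i (algebraMap K A c₀ * y) - algebraMap K A c₀ * gamma i y ∈ J * J := by
  obtain ⟨p, hp, -, -, h1⟩ := exists_scalarPoly hKb hA hL c₀ y i hi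
  have := aeval_mem_of_WI (pow_mult J) (x := fun v : Var D1 => gamma (v.j + 1) y)
    (fun v => by simpa using h (v.j + 1) (by omega)) h1
  obtain ⟨n, rfl⟩ : ∃ t, i = t + 1 := ⟨i - 1, by omega⟩
  rw [map_sub, map_mul, hp, aeval_C, show c D1 K () (n + 1) = X ⟨(), n, ENat.natCast_lt_top n⟩ from
    c_var K (D := D1) ⟨(), n, ENat.natCast_lt_top n⟩, aeval_X, pow_two] at this
  exact this

end Cor

end Groth.Agent.Lam38
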