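import Groth.Agent.Lam38.Mult

/-!
The free special λ-ring on generators `ι`, the generator `s` having `γ^n = 0` for `n > D s`:
polynomials in the `γ^(j+1)`, `j < D s`, with the filtration by weight.
-/

set_option autoImplicit false

universe u v

namespace Groth.Agent.Lam38

open Finset MvPolynomial

variable {ι : Type} {D : ι → ℕ∞}

/-- The variable `γ^(j+1)` of the generator `s`. -/
@[ext] structure Var (D : ι → ℕ∞) where
  s : ι
  j : ℕ
  lt : (j : ℕ∞) < D s

/-- The weight of `γ^(j+1)`. -/
def wt (v : Var D) : ℕ := v.j + 1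

theorem wt_pos (v : Var D) : 0 < wt v := Nat.succ_pos _

variable (D) in
open Classical in
/-- The `γ`-sequence of the generator `s`. -/
noncomputable def c (R : Type*) [CommRing R] (s : ι) : ℕ → MvPolynomial (Var D) R
  | 0 => 1
  | n + 1 => if h : (n : ℕ∞) < D s then X ⟨s, n, h⟩ else 0

theorem c_zero (R : Type*) [CommRing R] (s : ι) : c D R s 0 = 1 := rfl

theorem c_var (R : Type*) [CommRing R] (v : Var D) : c D R v.s (v.j + 1) = X v := by
  simp only [c, dif_pos v.lt]

theorem c_eq_zero (R : Type*) [CommRing R] (s : ι) (n : ℕ) (h : ¬ (n : ℕ∞) < D s) :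
    c D R s (n + 1) = 0 := by simp [c, h]

theorem map_c {R S : Type*} [CommRing R] [CommRing S] (f : R →+* S) (s : ι) (n : ℕ) :
    map f (c D R s n) = c D S s n := by
  rcases n with _ | n
  · simp [c]
  · simp only [c]; split_ifs <;> simp

theorem c_mem_WI (R : Type*) [CommRing R] (s : ι) (n : ℕ) : c D R s n ∈ WI R (wt (D := D)) n := by
  rcases n with _ | n
  · exact (WI_mult _).mem_zero _
  · simp only [c]
    split_ifs with h
    · exact X_mem_WI (wt (D := D)) ⟨s, n, h⟩
    · exact zero_mem _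

section Tr

variable {R : Type*} [CommRing R] [Algebra ℚ R]

/-- The `γ`-sequence of `ψ^k x` from that of `x`. -/
noncomputable def tr (k : ℕ) (a : ℕ → R) : ℕ → R := fromG (bT fun j => ibT (g a) (j * k))

theorem tr_zero (k : ℕ) (a : ℕ → R) : tr k a 0 = 1 := fromG_zero _

theorem map_tr {S F : Type*} [CommRing S] [Algebra ℚ S] [FunLike F R S] [RingHomClass F R S]
    (φ : F) (k : ℕ) {a : ℕ → R} (ha : a 0 = 1) (n : ℕ) :
    φ (tr k a n) = tr k (fun m => φ (a m)) n := by
  rw [tr, map_fromG φ]
  simp only [map_bT φ, map_ibT φ, map_g φ ha]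
  rfl

theorem g_tr (k : ℕ) (a : ℕ → R) (r : ℕ) : g (tr k a) r = bT (fun j => ibT (g a) (j * k)) r := by
  rcases r with _ | r
  · simp [g_zero, bT_zero, ibT]
  · exact g_fromG _ r

omit [Algebra ℚ R] in
theorem ibT_g_esymm (s : Multiset R) (m : ℕ) :
    ibT (g fun n => s.esymm n) m = (s.map fun b => (1 + b) ^ m - 1).sum := by
  have e : ∀ r, g (fun n => s.esymm n) r = (s.map fun b => b ^ r - if r = 0 then 1 else 0).sum := by
    clear m
    intro r
    rcases r with _ | r
    · simp [g_zero]
    · rw [g_esymm]; simp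
  rw [ibT]
  simp only [e]
  clear e
  induction s using Multiset.induction with
  | empty => simp
  | cons b s ih => ?_
  rw [Multiset.map_cons, Multiset.sum_cons, ← ih]
  simp only [Multiset.map_cons, Multiset.sum_cons, mul_add, Finset.sum_add_distrib]
  congr 1
  rw [add_comm 1 b, add_pow]
  simp only [mul_sub, mul_ite, mul_one, mul_zero, Finset.sum_sub_distrib, one_pow]
  congr 1
  · exact Finset.sum_congr rfl fun r _ => mul_comm _ _
  · simp

theorem tr_esymm (s : Multiset R) (k : ℕ) :
    tr k (fun n => s.esymm n) = fun n => (s.map fun b => (1 + b) ^ k - 1).esymm n := by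
  refine seq_ext (fromG_zero _) (esymm_zero_eq _) fun i => ?_
  rw [g_tr, g_esymm, Multiset.map_map]
  simp only [ibT_g_esymm]
  induction s using Multiset.induction with
  | empty =>
    simp only [Multiset.map_zero, Multiset.sum_zero]
    exact bT_const 0 _ (by omega)
  | cons b s ih =>
    simp only [Multiset.map_cons, Multiset.sum_cons, bT_add, ih, Function.comp_apply]
    congr 1
    have e : bT (fun j => (1 + b) ^ (j * k) - 1) (i + 1) =
        bT (fun j => ((1 + b) ^ k) ^ j) (i + 1) + bT (fun _ => (-1 : R)) (i + 1) := by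
      rw [← bT_add]
      exact bT_congr _ fun j _ => by rw [← pow_mul, mul_comm k j, sub_eq_add_neg]
    rw [e, bT_const _ _ (by omega), add_zero, bT_eq_sum,
      sub_eq_add_neg ((1 + b) ^ k) 1, add_pow ((1 + b) ^ k) (-1 : R) (i + 1)]
    exact Finset.sum_congr rfl fun j _ => by ring

/-- A `γ`-sequence of length `d` keeps length `d` under `ψ^k`. -/
theorem tr_eq_zero (k d : ℕ) {a : ℕ → R} (ha : a 0 = 1) (hd : ∀ n, d < n → a n = 0) (n : ℕ)
    (hn : d < n) : tr k a n = 0 := by
  let t : ℕ → MvPolynomial (Fin d) ℚ := tseq X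
  have key : tr k t n = 0 := by
    apply Lambda37.aeval_eVec_injective
    rw [map_zero, map_tr _ k (tseq_zero _)]
    have hl : (fun m => aeval (Lambda37.eVec ℚ d) (t m)) = fun m => (vars' ℚ (σ := Fin d)).esymm m := by
      funext m
      rw [map_tseq, ← congrFun (tseq_eVec ℚ d) m]
      simp
    rw [hl, tr_esymm]
    simp only [Multiset.esymm]
    rw [Multiset.powersetCard_eq_empty _ (by simp [vars']; omega)]
    simp
  have := congrArg (aeval (R := ℚ) fun i : Fin d => a ((i : ℕ) + 1)) key
  rw [map_zero, map_tr _ k (tseq_zero _)] at this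
  rw [← this]
  congr 1
  funext m
  rcases m with _ | m
  · simp [tseq, ha]
  · simp only [tseq]
    split_ifs with h
    · simp
    · rw [map_zero, hd _ (by omega)]

end Tr

section RatPart

variable (D)

/-- Ghost components of the generator's `γ`-sequence. -/
noncomputable def δ (s : ι) : ℕ → MvPolynomial (Var D) ℚ := g (c D ℚ s)

/-- `m ↦ ψ^m` of the generator. -/
noncomputable def G (s : ι) : ℕ → MvPolynomial (Var D) ℚ := ibT (δ D s)

/-- The Adams operations of the universal ring (`ψ^0` is the augmentation). -/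
noncomputable def psi (k : ℕ) : MvPolynomial (Var D) ℚ →ₐ[ℚ] MvPolynomial (Var D) ℚ :=
  aeval fun v : Var D => tr k (c D ℚ v.s) (v.j + 1)

variable {D}

theorem psi_c (k : ℕ) (s : ι) (n : ℕ) : psi D k (c D ℚ s n) = tr k (c D ℚ s) n := by
  rcases n with _ | n
  · simp [c, tr_zero]
  by_cases h : (n : ℕ∞) < D s
  · rw [show c D ℚ s (n + 1) = X ⟨s, n, h⟩ from c_var ℚ (D := D) ⟨s, n, h⟩]
    exact aeval_X _ _
  · rw [c_eq_zero ℚ s n h, map_zero]
    symm
    obtain ⟨d, hd⟩ := ENat.ne_top_iff_exists.mp (show D s ≠ ⊤ from fun e => h (by rw [e]; exact ENat.natCast_lt_top n))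
    rw [← hd, Nat.cast_lt, not_lt] at h
    refine tr_eq_zero k d (c_zero ℚ s) (fun m hm => ?_) _ (by omega)
    obtain ⟨m, rfl⟩ : ∃ i, m = i + 1 := ⟨m - 1, by omega⟩
    exact c_eq_zero ℚ s m (by rw [← hd, Nat.cast_lt]; omega)

theorem δ_zero (s : ι) : δ D s 0 = 0 := g_zero _

theorem bT_G (s : ι) (i : ℕ) : bT (G D s) i = δ D s i := bT_ibT _ i

theorem psi_G (k : ℕ) (s : ι) (m : ℕ) : psi D k (G D s m) = G D s (m * k) := by
  rw [G, map_ibT (psi D k)]
  have e : (fun r => psi D k (δ D s r)) = bT fun j => G D s (j * k) := by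
    funext r
    rw [δ, map_g (psi D k) (c_zero ℚ s), show (fun n => psi D k (c D ℚ s n)) = tr k (c D ℚ s) from
      funext (psi_c k s), g_tr]
    rfl
  rw [e, ibT_bT]
  rfl

theorem algHom_ext_G {A : Type*} [CommRing A] [Algebra ℚ A] {f f' : MvPolynomial (Var D) ℚ →ₐ[ℚ] A}
    (h : ∀ s m, f (G D s m) = f' (G D s m)) : f = f' := by
  refine MvPolynomial.algHom_ext fun v => ?_
  rw [← c_var ℚ v, ← congrFun (fromG_g (c_zero ℚ v.s)) (v.j + 1), map_fromG f, map_fromG f']
  refine fromG_congr _ fun r _ _ => ?_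
  show f (δ D v.s r) = f' (δ D v.s r)
  rw [← bT_G, map_bT f, map_bT f']
  exact bT_congr _ fun j _ => h v.s j

theorem psi_psi (k k' : ℕ) (z : MvPolynomial (Var D) ℚ) : psi D k (psi D k' z) = psi D (k * k') z := by
  have : (psi D k).comp (psi D k') = psi D (k * k') := algHom_ext_G fun s m => by
    rw [AlgHom.comp_apply, psi_G, psi_G, psi_G, mul_assoc, mul_comm k' k]
  exact AlgHom.congr_fun this z

theorem psi_one (z : MvPolynomial (Var D) ℚ) : psi D 1 z = z := by
  have : psi D 1 = AlgHom.id ℚ _ := algHom_ext_G fun s m => by rw [psi_G, mul_one]; rfl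
  exact AlgHom.congr_fun this z

theorem psi_zero (z : MvPolynomial (Var D) ℚ) : psi D 0 z = C (constantCoeff z) := by
  induction z using MvPolynomial.induction_on with
  | C a => simp [psi]
  | add p q hp hq => rw [map_add, hp, hq, map_add, map_add]
  | mul_X p v hp =>
    rw [map_mul (psi D 0), map_mul constantCoeff, constantCoeff_X, mul_zero, map_zero, psi, aeval_X]
    refine mul_eq_zero_of_right _ ?_
    refine (fromG_congr (G' := fun _ => (0 : MvPolynomial (Var D) ℚ)) _ fun j hj _ => ?_).trans ?_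
    · rw [bT_congr j (f' := fun _ => ibT (g (c D ℚ v.s)) 0) fun i _ => by rw [mul_zero],
        bT_const _ _ hj]
    · rw [fromG_succ]; simp

noncomputable instance lambdaOpsQ : LambdaRing.LambdaOps (MvPolynomial (Var D) ℚ) where
  lam n z := fromG (fun k => psi D k z) n
  lam_zero z := fromG_zero _
  lam_one z := by rw [fromG_succ]; simp [fromG_zero, psi_one]
  lam_add k x y := by
    refine (congrFun (seq_ext (fromG_zero _)
      (conv_zero (a := fromG fun j => psi D j x) (b := fromG fun j => psi D j y) (fromG_zero _) (fromG_zero _))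
      fun j => ?_) k)
    rw [g_fromG, g_conv (fromG_zero _) (fromG_zero _), g_fromG, g_fromG, map_add]

theorem adamsOp_eq_psi (k : ℕ) (hk : 1 ≤ k) (z : MvPolynomial (Var D) ℚ) :
    LambdaRing.adamsOp k z = psi D k z := by
  obtain ⟨k, rfl⟩ : ∃ i, k = i + 1 := ⟨k - 1, by omega⟩
  rw [adamsOp_eq]
  exact g_fromG (fun j => psi D j z) k

theorem isSpecialQ : LambdaRing.IsSpecial (MvPolynomial (Var D) ℚ) := by
  refine isSpecial_of_adams (fun k hk => ?_) (fun k hk x y => ?_) (fun k k' hk hk' x => ?_)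
  · rw [adamsOp_eq_psi k hk, map_one]
  · simp only [adamsOp_eq_psi k hk, map_mul]
  · rw [adamsOp_eq_psi k' hk', adamsOp_eq_psi k hk, adamsOp_eq_psi _ (one_le_mul hk hk'), psi_psi]

variable (D) in
/-- The generator `s`. -/
noncomputable def gen (R : Type*) [CommRing R] (s : ι) : MvPolynomial (Var D) R := c D R s 1

theorem G_one (s : ι) : G D s 1 = gen D ℚ s := by
  rw [G, ibT, δ, Finset.sum_range_succ, Finset.sum_range_one, g_zero, g_eq (c_zero ℚ s)]
  simp [gen]

theorem psi_gen (k : ℕ) (s : ι) : psi D k (gen D ℚ s) = G D s k := by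
  rw [← G_one, psi_G, one_mul]

theorem gamma_gen (s : ι) (n : ℕ) : LambdaRing.gamma n (gen D ℚ s) = c D ℚ s n := by
  rw [gamma_eq]
  refine congrFun (seq_ext (toGamma_zero _) (c_zero ℚ s) fun i => ?_) n
  rw [g_toGamma (a := fun n => LambdaRing.LambdaOps.lam n (gen D ℚ s)) (LambdaRing.LambdaOps.lam_zero _)]
  refine (bT_congr _ fun j _ => ?_).trans (bT_G s (i + 1))
  rcases j with _ | j
  · rw [g_zero]
    simp [G, ibT, δ_zero]
  · exact (g_fromG (fun k => psi D k (gen D ℚ s)) j).trans (psi_gen _ s)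

/-- Binomial transforms of `k ↦ ψ^k z` respect the weight filtration. -/
theorem bT_psi_mem (z : MvPolynomial (Var D) ℚ) (i : ℕ) :
    bT (fun k => psi D k z) i ∈ WI ℚ (wt (D := D)) i := by
  have hδ : ∀ s r, δ D s r ∈ WI ℚ (wt (D := D)) r := fun s r =>
    (WI_mult _).g_mem (c_zero ℚ s) (fun j _ => c_mem_WI ℚ s j) r
  let S : Subalgebra ℚ (MvPolynomial (Var D) ℚ) :=
    { carrier := {z | ∀ i, bT (fun k => psi D k z) i ∈ WI ℚ (wt (D := D)) i}
      add_mem' := fun {a b} ha hb i => by
        simp only [map_add, bT_add]; exact add_mem (ha i) (hb i)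
      mul_mem' := fun {a b} ha hb i => by
        simp only [map_mul]
        rw [bT_mul]
        refine Ideal.sum_mem _ fun p _ => Ideal.sum_mem _ fun q _ => ?_
        by_cases h : i ≤ p + q
        · exact Ideal.mul_mem_left _ _ ((WI_mult _).anti h ((WI_mult _).mul (ha p) (hb q)))
        · rw [mulCoef_of_lt (not_le.mp h), map_zero, zero_mul]; exact zero_mem _
      algebraMap_mem' := fun r i => by
        simp only [AlgHom.commutes]
        rcases i with _ | i
        · exact (WI_mult _).mem_zero _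
        · rw [bT_const _ _ (by omega)]; exact zero_mem _ }
  have hG : ∀ s m, G D s m ∈ S := fun s m i => by
    simp only [psi_G]
    rw [bT_congr i (f' := fun j => ibT (δ D s) (j * m)) fun j _ => by rw [G, mul_comm], bT_ibT_mul _ _ _ le_rfl]
    refine Ideal.sum_mem _ fun r _ => ?_
    by_cases h : i ≤ r
    · exact Ideal.mul_mem_left _ _ ((WI_mult _).anti h (hδ s r))
    · rw [psiCoef_of_lt (not_le.mp h), map_zero, zero_mul]; exact zero_mem _
  have hδS : ∀ s r, δ D s r ∈ S := fun s r => by
    rw [← bT_G, bT_eq_sum]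
    exact S.sum_mem fun j _ => S.mul_mem (S.mul_mem (S.pow_mem (S.neg_mem S.one_mem) _)
      (natCast_mem S _)) (hG s j)
  have hc : ∀ s n, c D ℚ s n ∈ S := by
    intro s n
    induction n using Nat.strong_induction_on with
    | _ n ih =>
      rcases n with _ | n
      · exact S.one_mem
      rw [← congrFun (fromG_g (c_zero ℚ s)) (n + 1), fromG_succ]
      refine S.mul_mem (S.algebraMap_mem _) (S.sum_mem fun k _ => S.mul_mem
        (S.mul_mem (S.pow_mem (S.neg_mem S.one_mem) _) (hδS s _)) ?_)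
      rw [congrFun (fromG_g (c_zero ℚ s)) (n - k)]
      exact ih _ (by omega)
  have : z ∈ S := by
    induction z using MvPolynomial.induction_on with
    | C a => exact S.algebraMap_mem a
    | add p q hp hq => exact S.add_mem hp hq
    | mul_X p v hp => exact S.mul_mem hp (by rw [← c_var ℚ v]; exact hc v.s _)
  exact this i

/-- `ψ^k` acts as `k^n` on the `n`-th graded piece. -/
theorem psi_graded (k : ℕ) {n : ℕ} {z : MvPolynomial (Var D) ℚ} (hz : z ∈ WI ℚ (wt (D := D)) n) :
    psi D k z - (k : MvPolynomial (Var D) ℚ) ^ n * z ∈ WI ℚ (wt (D := D)) (n + 1) := by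
  set W := WI ℚ (wt (D := D)) with hW
  have hT : Mult W := WI_mult _
  have hc : ∀ v : Var D, psi D k (X v) - (k : MvPolynomial (Var D) ℚ) ^ wt v * X v ∈ W (wt v + 1) := by
    intro v
    rw [psi, aeval_X, ← c_var ℚ v, ← congrFun (fromG_g (c_zero ℚ v.s)) (v.j + 1)]
    refine hT.fromG_graded _ (fun j _ => hT.g_mem (c_zero ℚ v.s) (fun j _ => c_mem_WI ℚ v.s j) j)
      (fun j hj => ?_) (v.j + 1)
    rw [bT_ibT_mul _ _ _ (Nat.le_add_right (j * k) j),
      ← Finset.add_sum_erase (range (j * k + j + 1)) _ (a := j) (Finset.mem_range.mpr (by omega))]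
    rw [psiCoef_self, map_pow, map_natCast, add_sub_cancel_left]
    refine Ideal.sum_mem _ fun r hr => ?_
    rcases Nat.lt_or_ge r (j + 1) with h | h
    · rw [psiCoef_of_lt (by have := (Finset.mem_erase.mp hr).1; omega), map_zero, zero_mul]
      exact zero_mem _
    · exact Ideal.mul_mem_left _ _ (hT.anti h (hT.g_mem (c_zero ℚ v.s) (fun j _ => c_mem_WI ℚ v.s j) r))
  let P : ℕ → MvPolynomial (Var D) ℚ → Prop := fun n p =>
    p ∈ W n ∧ psi D k p - (k : MvPolynomial (Var D) ℚ) ^ n * p ∈ W (n + 1)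
  have hmul : ∀ {a b p q}, P a p → P b q → P (a + b) (p * q) := by
    intro a b p q hp hq
    refine ⟨hT.mul hp.1 hq.1, ?_⟩
    have hq' : psi D k q ∈ W b := by
      have := add_mem (hT.anti (Nat.le_succ b) hq.2) (Ideal.mul_mem_left _ ((k : MvPolynomial (Var D) ℚ) ^ b) hq.1)
      rwa [sub_add_cancel] at this
    rw [map_mul, show psi D k p * psi D k q - (k : MvPolynomial (Var D) ℚ) ^ (a + b) * (p * q) =
      (psi D k p - (k : MvPolynomial (Var D) ℚ) ^ a * p) * psi D k q +
      (k : MvPolynomial (Var D) ℚ) ^ a * (p * (psi D k q - (k : MvPolynomial (Var D) ℚ) ^ b * q)) by ring]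
    refine add_mem ?_ (Ideal.mul_mem_left _ _ ?_)
    · have := hT.mul hp.2 hq'
      rwa [show a + 1 + b = a + b + 1 by omega] at this
    · rw [show a + b + 1 = a + (b + 1) by omega]
      exact hT.mul hp.1 hq.2
  have hone : P 0 1 := ⟨hT.mem_zero _, by simp⟩
  have hX : ∀ (v : Var D) (e : ℕ), P (e * wt v) (X v ^ e) := fun v e => by
    induction e with
    | zero => simpa using hone
    | succ e ih => rw [Nat.succ_mul, pow_succ]; exact hmul ih ⟨X_mem_WI (wt (D := D)) v, hc v⟩
  have hprod : ∀ (s : Finset (Var D)) (d : Var D → ℕ),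
      P (∑ v ∈ s, d v * wt v) (∏ v ∈ s, X v ^ d v) := by
    classical
    intro s d
    induction s using Finset.induction with
    | empty => simpa using hone
    | insert v s hv ih =>
      rw [Finset.sum_insert hv, Finset.prod_insert hv]
      exact hmul (hX v (d v)) ih
  rw [z.as_sum, map_sum, Finset.mul_sum, ← Finset.sum_sub_distrib]
  refine Ideal.sum_mem _ fun d hd => ?_
  obtain ⟨h1, h2⟩ := hprod d.support d
  rw [monomial_eq, Finsupp.prod, map_mul, show psi D k (C (coeff d z)) = C (coeff d z) from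
    (psi D k).commutes _, mul_left_comm, ← mul_sub]
  refine Ideal.mul_mem_left _ _ ?_
  have hle := hz d (mem_support_iff.mp hd)
  simp only [Finsupp.weight_apply, Finsupp.sum, smul_eq_mul] at hle
  rcases hle.eq_or_lt with he | hlt
  · rw [he]; exact h2
  · have hp : psi D k (∏ v ∈ d.support, X v ^ d v) ∈ W (∑ v ∈ d.support, d v * wt v) := by
      have := add_mem (hT.anti (Nat.le_succ _) h2)
        (Ideal.mul_mem_left _ ((k : MvPolynomial (Var D) ℚ) ^ ∑ v ∈ d.support, d v * wt v) h1)
      rwa [sub_add_cancel] at this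
    exact hT.anti hlt (sub_mem hp (Ideal.mul_mem_left _ _ h1))

end RatPart

end Groth.Agent.Lam38
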