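import Groth.Agent.Lam38.Univ

/-!
Integrality of the universal special λ-ring, its evaluation maps, and the basic properties of
`γ`-operations with respect to the weight filtration.
-/

set_option autoImplicit false

universe u v

namespace Groth.Agent.Lam38

open Finset MvPolynomial LambdaRing

section Generic

variable {K : Type u} [CommRing K] [LambdaOps K]

theorem lam_neg_succ (x : K) (n : ℕ) : LambdaOps.lam (n + 1) (-x) =
    -∑ i ∈ range (n + 1), LambdaOps.lam (i + 1) x * LambdaOps.lam (n - i) (-x) := by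
  have h := LambdaOps.lam_add (n + 1) x (-x)
  rw [add_neg_cancel, lam_zero_of_two_le _ (by omega), Finset.sum_range_succ', LambdaOps.lam_zero,
    one_mul, Nat.sub_zero] at h
  rw [eq_neg_iff_add_eq_zero, add_comm]
  simpa using h.symm

omit [LambdaOps K] in
theorem aeval_mem_subring {σ : Type*} (S : Subring K) {v : σ → K} (hv : ∀ i, v i ∈ S)
    (P : MvPolynomial σ ℤ) : aeval v P ∈ S := by
  induction P using MvPolynomial.induction_on with
  | C a => rw [aeval_C, eq_intCast]; exact intCast_mem S a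
  | add p q hp hq => rw [map_add]; exact S.add_mem hp hq
  | mul_X p i hp => rw [map_mul, aeval_X]; exact S.mul_mem hp (hv i)

/-- Elements of a subring all of whose `λ^n` stay in it. -/
def lamClosed (hK : IsSpecial K) (S : Subring K) : Subring K where
  carrier := {z | ∀ n, LambdaOps.lam n z ∈ S}
  zero_mem' := fun n => by
    rcases n with _ | n
    · rw [LambdaOps.lam_zero]; exact S.one_mem
    · rw [lam_zero_of_two_le _ (by omega)]; exact S.zero_mem
  one_mem' := fun n => by
    rcases n with _ | _ | n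
    · rw [LambdaOps.lam_zero]; exact S.one_mem
    · rw [LambdaOps.lam_one]; exact S.one_mem
    · rw [hK.lam_one_eq_zero _ (by omega)]; exact S.zero_mem
  add_mem' := fun {a b} ha hb n => by
    rw [LambdaOps.lam_add]
    exact S.sum_mem fun i _ => S.mul_mem (ha i) (hb _)
  neg_mem' := fun {a} ha n => by
    induction n using Nat.strong_induction_on with
    | _ n ih =>
      rcases n with _ | n
      · rw [LambdaOps.lam_zero]; exact S.one_mem
      · rw [lam_neg_succ]
        exact S.neg_mem (S.sum_mem fun i _ => S.mul_mem (ha _) (ih _ (by omega)))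
  mul_mem' := fun {a b} ha hb n => by
    obtain ⟨P, hP⟩ := Lambda37.exists_isMulPoly n
    rw [hK.lam_mul n P hP]
    refine aeval_mem_subring S (fun i => ?_) P
    rcases i with l | l
    · exact ha _
    · exact hb _

theorem lam_lam_mem_lamClosed (hK : IsSpecial K) (S : Subring K) {x : K}
    (h : ∀ n, LambdaOps.lam n x ∈ S) (i : ℕ) : LambdaOps.lam i x ∈ lamClosed hK S := fun j => by
  obtain ⟨Q, hQ⟩ := exists_isCompPoly i j
  rw [hK.lam_lam i j Q hQ]
  exact aeval_mem_subring S (fun l => h _) Q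

variable {A : Type v} [CommRing A] [LambdaOps A]

/-- Elements at which a ring homomorphism commutes with all `λ^n`. -/
def commSet (hK : IsSpecial K) (hA : IsSpecial A) (φ : K →+* A) : Subring K where
  carrier := {z | ∀ n, φ (LambdaOps.lam n z) = LambdaOps.lam n (φ z)}
  zero_mem' := fun n => by
    rw [map_zero]
    rcases n with _ | n
    · rw [LambdaOps.lam_zero, LambdaOps.lam_zero, map_one]
    · rw [lam_zero_of_two_le _ (by omega), lam_zero_of_two_le _ (by omega), map_zero]
  one_mem' := fun n => by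
    rw [map_one]
    rcases n with _ | _ | n
    · rw [LambdaOps.lam_zero, LambdaOps.lam_zero, map_one]
    · rw [LambdaOps.lam_one, LambdaOps.lam_one, map_one]
    · rw [hK.lam_one_eq_zero _ (by omega), hA.lam_one_eq_zero _ (by omega), map_zero]
  add_mem' := fun {a b} ha hb n => by
    rw [LambdaOps.lam_add, map_add φ a b, LambdaOps.lam_add, map_sum]
    exact Finset.sum_congr rfl fun i _ => by rw [map_mul, ha i, hb]
  neg_mem' := fun {a} ha n => by
    rw [map_neg]
    induction n using Nat.strong_induction_on with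
    | _ n ih =>
      rcases n with _ | n
      · rw [LambdaOps.lam_zero, LambdaOps.lam_zero, map_one]
      · rw [lam_neg_succ, lam_neg_succ, map_neg, map_sum]
        exact congrArg Neg.neg (Finset.sum_congr rfl fun i _ => by
          rw [map_mul, ha, ih (n - i) (by omega)])
  mul_mem' := fun {a b} ha hb n => by
    obtain ⟨P, hP⟩ := Lambda37.exists_isMulPoly n
    rw [hK.lam_mul n P hP, map_mul φ a b, hA.lam_mul n P hP, map_aevalZ]
    congr 2
    funext s
    rcases s with l | l
    · exact ha _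
    · exact hb _

theorem lam_mem_commSet (hK : IsSpecial K) (hA : IsSpecial A) (φ : K →+* A) {x : K}
    (h : ∀ n, φ (LambdaOps.lam n x) = LambdaOps.lam n (φ x)) (i : ℕ) :
    LambdaOps.lam i x ∈ commSet hK hA φ := fun j => by
  obtain ⟨Q, hQ⟩ := exists_isCompPoly i j
  rw [hK.lam_lam i j Q hQ, h i, hA.lam_lam i j Q hQ, map_aevalZ]
  congr 2
  exact funext fun l => h _

theorem lam_succ_eq_gamma (x : K) (n : ℕ) : LambdaOps.lam (n + 1) x =
    gamma (n + 1) x - ∑ j ∈ range n, (n.choose j : K) * LambdaOps.lam (j + 1) x := by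
  rw [gamma_eq, toGamma_succ, add_sub_cancel_right]

theorem gamma_mem_of_lam {J : Ideal K} {x : K} (h : ∀ n, 1 ≤ n → LambdaOps.lam n x ∈ J) (n : ℕ)
    (hn : 1 ≤ n) : gamma n x ∈ J := by
  obtain ⟨n, rfl⟩ : ∃ i, n = i + 1 := ⟨n - 1, by omega⟩
  rw [gamma_eq, toGamma_succ]
  exact add_mem (h _ (by omega)) (Ideal.sum_mem _ fun j _ => Ideal.mul_mem_left _ _ (h _ (by omega)))

theorem map_gamma' (φ : K →+* A) (h : ∀ n x, φ (LambdaOps.lam n x) = LambdaOps.lam n (φ x))
    (n : ℕ) (x : K) : φ (gamma n x) = gamma n (φ x) := by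
  rw [gamma_eq, gamma_eq, map_toGamma φ]
  simp only [h]

end Generic

section IntPart

variable {ι : Type} {D : ι → ℕ∞}

variable (D) in
/-- The inclusion into the rational universal ring. -/
noncomputable def incQ : MvPolynomial (Var D) ℤ →+* MvPolynomial (Var D) ℚ :=
  MvPolynomial.map (Int.castRingHom ℚ)

theorem incQ_injective : Function.Injective (incQ D) := map_injective _ Int.cast_injective

theorem lam_gen_mem (s : ι) (n : ℕ) : LambdaOps.lam n (gen D ℚ s) ∈ (incQ D).range := by
  induction n using Nat.strong_induction_on with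
  | _ n ih =>
    rcases n with _ | n
    · rw [LambdaOps.lam_zero]; exact Subring.one_mem _
    · rw [lam_succ_eq_gamma, gamma_gen]
      exact Subring.sub_mem _ ⟨c D ℤ s (n + 1), map_c _ s _⟩ (Subring.sum_mem _ fun j hj =>
        Subring.mul_mem _ (natCast_mem _ _) (ih _ (by have := Finset.mem_range.mp hj; omega)))

theorem range_le_lamClosed :
    ∀ p : MvPolynomial (Var D) ℤ, incQ D p ∈ lamClosed isSpecialQ (incQ D).range := by
  intro p
  induction p using MvPolynomial.induction_on with
  | C a => simp only [eq_intCast, map_intCast]; exact intCast_mem _ a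
  | add p q hp hq => rw [map_add]; exact Subring.add_mem _ hp hq
  | mul_X p v hp =>
    rw [map_mul]
    refine Subring.mul_mem _ hp ?_
    rw [incQ, map_X, ← c_var ℚ v, ← gamma_gen, gamma_eq, toGamma_succ]
    have h := fun i => lam_lam_mem_lamClosed (isSpecialQ (D := D)) (incQ D).range (lam_gen_mem (D := D) v.s) i
    exact Subring.add_mem _ (h _) (Subring.sum_mem _ fun j _ =>
      Subring.mul_mem _ (natCast_mem _ _) (h _))

theorem exists_lamZ (p : MvPolynomial (Var D) ℤ) (n : ℕ) :
    ∃ q, incQ D q = LambdaOps.lam n (incQ D p) :=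
  RingHom.mem_range.mp (range_le_lamClosed p n)

noncomputable instance lambdaOpsZ : LambdaOps (MvPolynomial (Var D) ℤ) where
  lam n p := (exists_lamZ p n).choose
  lam_zero p := incQ_injective (by rw [(exists_lamZ p 0).choose_spec, LambdaOps.lam_zero, map_one])
  lam_one p := incQ_injective (by rw [(exists_lamZ p 1).choose_spec, LambdaOps.lam_one])
  lam_add k p q := incQ_injective (by
    rw [(exists_lamZ (p + q) k).choose_spec, map_add, LambdaOps.lam_add, map_sum]
    exact Finset.sum_congr rfl fun i _ => by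
      rw [map_mul, (exists_lamZ p i).choose_spec, (exists_lamZ q (k - i)).choose_spec])

theorem incQ_lam (n : ℕ) (p : MvPolynomial (Var D) ℤ) :
    incQ D (LambdaOps.lam n p) = LambdaOps.lam n (incQ D p) := (exists_lamZ p n).choose_spec

theorem incQ_gamma (n : ℕ) (p : MvPolynomial (Var D) ℤ) : incQ D (gamma n p) = gamma n (incQ D p) :=
  map_gamma' _ incQ_lam n p

theorem isSpecialZ : IsSpecial (MvPolynomial (Var D) ℤ) := by
  refine ⟨fun n hn => incQ_injective ?_, fun n P hP x y => incQ_injective ?_,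
    fun i j Q hQ x => incQ_injective ?_⟩
  · rw [incQ_lam, map_one, map_zero, isSpecialQ.lam_one_eq_zero n hn]
  · rw [incQ_lam, map_mul, isSpecialQ.lam_mul n P hP, map_aevalZ]
    congr 2
    funext s
    rcases s with l | l <;> exact (incQ_lam _ _).symm
  · rw [incQ_lam, incQ_lam, isSpecialQ.lam_lam i j Q hQ, map_aevalZ]
    congr 2
    exact funext fun l => (incQ_lam _ _).symm

theorem gamma_genZ (s : ι) (n : ℕ) : gamma n (gen D ℤ s) = c D ℤ s n := by
  refine incQ_injective ?_
  rw [incQ_gamma, gen, incQ, map_c, map_c]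
  exact gamma_gen s n

variable {A : Type u} [CommRing A] [LambdaOps A]

variable (D) in
/-- The evaluation at `x`. -/
noncomputable def ev (x : ι → A) : MvPolynomial (Var D) ℤ →ₐ[ℤ] A :=
  aeval fun v : Var D => gamma (v.j + 1) (x v.s)

theorem ev_c (x : ι → A) (hx : ∀ s (j : ℕ), ¬ (j : ℕ∞) < D s → gamma (j + 1) (x s) = 0) (s : ι) (n : ℕ) :
    ev D x (c D ℤ s n) = gamma n (x s) := by
  rcases n with _ | n
  · simp [c, gamma]
  · by_cases h : (n : ℕ∞) < D s
    · rw [show c D ℤ s (n + 1) = X ⟨s, n, h⟩ from c_var ℤ (D := D) ⟨s, n, h⟩, ev, aeval_X]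
    · rw [c_eq_zero ℤ s n h, map_zero, hx s n h]

/-- The universal property: evaluation commutes with the `λ^n`. -/
theorem ev_lam (hA : IsSpecial A) (x : ι → A)
    (hx : ∀ s (j : ℕ), ¬ (j : ℕ∞) < D s → gamma (j + 1) (x s) = 0) (n : ℕ)
    (p : MvPolynomial (Var D) ℤ) : ev D x (LambdaOps.lam n p) = LambdaOps.lam n (ev D x p) := by
  have hgen : ∀ s, ev D x (gen D ℤ s) = x s := fun s => by
    rw [gen, ev_c x hx, gamma_eq, toGamma_succ, Finset.sum_range_zero, add_zero, LambdaOps.lam_one]
  have hlg : ∀ s i, ev D x (LambdaOps.lam i (gen D ℤ s)) = LambdaOps.lam i (x s) := by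
    intro s i
    induction i using Nat.strong_induction_on with
    | _ i ih =>
      rcases i with _ | i
      · rw [LambdaOps.lam_zero, LambdaOps.lam_zero, map_one]
      · rw [lam_succ_eq_gamma, lam_succ_eq_gamma, map_sub, gamma_genZ, ev_c x hx, map_sum]
        congr 1
        exact Finset.sum_congr rfl fun j hj => by
          rw [map_mul, map_natCast, ih _ (by have := Finset.mem_range.mp hj; omega)]
  have : ∀ p, p ∈ commSet isSpecialZ hA (ev D x).toRingHom := by
    intro p
    induction p using MvPolynomial.induction_on with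
    | C a => rw [eq_intCast]; exact intCast_mem _ a
    | add p q hp hq => exact Subring.add_mem _ hp hq
    | mul_X p v hp =>
      refine Subring.mul_mem _ hp ?_
      rw [← c_var ℤ v, ← gamma_genZ, gamma_eq, toGamma_succ]
      have h := fun i => lam_mem_commSet isSpecialZ hA (ev D x).toRingHom (x := gen D ℤ v.s)
        (fun i => by
          show ev D x _ = LambdaOps.lam i (ev D x _)
          rw [hlg, hgen]) i
      exact Subring.add_mem _ (h _) (Subring.sum_mem _ fun j _ =>
        Subring.mul_mem _ (natCast_mem _ _) (h _))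
  exact this p n

theorem ev_gamma (hA : IsSpecial A) (x : ι → A)
    (hx : ∀ s (j : ℕ), ¬ (j : ℕ∞) < D s → gamma (j + 1) (x s) = 0) (n : ℕ)
    (p : MvPolynomial (Var D) ℤ) : ev D x (gamma n p) = gamma n (ev D x p) :=
  map_gamma' (ev D x).toRingHom (fun i q => ev_lam hA x hx i q) n p

theorem ev_mem {T : ℕ → Ideal A} (hT : Mult T) (x : ι → A)
    (hx : ∀ v : Var D, gamma (v.j + 1) (x v.s) ∈ T (wt v)) {n : ℕ} {p : MvPolynomial (Var D) ℤ}
    (hp : p ∈ WI ℤ (wt (D := D)) n) : ev D x p ∈ T n :=
  aeval_mem_of_WI hT hx hp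

end IntPart

section Filt

variable {ι : Type} {D : ι → ℕ∞}

local notation "Wq" => WI ℚ (wt (D := D))
local notation "Wz" => WI ℤ (wt (D := D))

theorem g_lamQ (z : MvPolynomial (Var D) ℚ) (j : ℕ) :
    g (fun n => LambdaOps.lam n z) (j + 1) = psi D (j + 1) z := g_fromG (fun k => psi D k z) j

theorem gammaQ_mem {z : MvPolynomial (Var D) ℚ} (hz : constantCoeff z = 0) (i : ℕ) :
    gamma i z ∈ Wq i := by
  have e : toGamma (fun n => LambdaOps.lam n z) = fromG (bT fun k => psi D k z) := by
    refine seq_ext (toGamma_zero _) (fromG_zero _) fun r => ?_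
    rw [g_toGamma (a := fun n => LambdaOps.lam n z) (LambdaOps.lam_zero z), g_fromG]
    refine bT_congr _ fun j _ => ?_
    rcases j with _ | j
    · rw [g_zero, psi_zero, hz, map_zero]
    · exact g_lamQ z j
  rw [gamma_eq, e]
  exact (WI_mult _).fromG_mem (fun j _ => bT_psi_mem z j) i

theorem psi_mem {z : MvPolynomial (Var D) ℚ} {w : ℕ} (hz : z ∈ Wq w) (k : ℕ) : psi D k z ∈ Wq w := by
  have := add_mem ((WI_mult _).anti (Nat.le_succ w) (psi_graded k hz))
    (Ideal.mul_mem_left _ ((k : MvPolynomial (Var D) ℚ) ^ w) hz)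
  rwa [sub_add_cancel] at this

theorem gammaQ_mem_of {z : MvPolynomial (Var D) ℚ} {w : ℕ} (hz : z ∈ Wq w) (i : ℕ) (hi : 1 ≤ i) :
    gamma i z ∈ Wq w := by
  refine gamma_mem_of_lam (fun n hn => ?_) i hi
  obtain ⟨n, rfl⟩ : ∃ t, n = t + 1 := ⟨n - 1, by omega⟩
  exact fromG_mem_ideal (fun j _ => psi_mem hz j) n

theorem sum_choose_neg_pow (n : ℕ) :
    ∑ j ∈ range (n + 1), (-1 : ℚ) ^ j * (n.choose j : ℚ) * ((j : ℚ) + 1) ^ n = (-1) ^ n * n.factorial := by
  have hd : ((Polynomial.X + 1 : Polynomial ℚ) ^ n).natDegree ≤ n := by compute_degree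
  have hc : ((Polynomial.X + 1 : Polynomial ℚ) ^ n).coeff n = 1 := by
    rw [Polynomial.coeff_X_add_one_pow, Nat.choose_self, Nat.cast_one]
  have h2 := bT_eval _ hd
  rw [hc, mul_one, bT_eq_sum] at h2
  rw [← h2, Finset.mul_sum]
  refine Finset.sum_congr rfl fun j hj => ?_
  simp only [Polynomial.eval_pow, Polynomial.eval_add, Polynomial.eval_X, Polynomial.eval_one]
  have : ((-1 : ℚ) ^ n) * (-1) ^ (n - j) = (-1) ^ j := by
    have hj' := Finset.mem_range.mp hj
    rw [← pow_add, show n + (n - j) = j + 2 * (n - j) by omega, pow_add, pow_mul]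
    norm_num
  rw [← mul_assoc, ← mul_assoc, this]

theorem gammaQ_congr {m : ℕ} (hm : 1 ≤ m) {z : MvPolynomial (Var D) ℚ} (hz : z ∈ Wq m) :
    gamma m z - (-1) ^ (m - 1) * ((m - 1).factorial : MvPolynomial (Var D) ℚ) * z ∈ Wq (m + 1) := by
  obtain ⟨n, rfl⟩ : ∃ t, m = t + 1 := ⟨m - 1, by omega⟩
  rw [Nat.add_sub_cancel]
  have hlam : ∀ j : ℕ, LambdaOps.lam (j + 1) z -
      (-1) ^ j * ((j : MvPolynomial (Var D) ℚ) + 1) ^ n * z ∈ Wq (n + 1 + 1) := by
    intro j
    refine mem_of_succ_mul (n := j) ?_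
    have h1 := fromG_sub (J := Wq (n + 1)) (G := fun k => psi D k z) (fun k _ => psi_mem hz k) j
    have h2 : (Wq (n + 1)) * (Wq (n + 1)) ≤ Wq (n + 1 + 1) :=
      (WI_mul_le _ _ _).trans ((WI_mult _).anti (by omega))
    have h3 := psi_graded (j + 1) hz
    have := add_mem (h2 h1) (Ideal.mul_mem_left _ ((-1) ^ j) h3)
    convert this using 1
    push_cast
    show _ * (fromG (fun k => psi D k z) (j + 1) - _) = _
    ring
  rw [gamma_eq, toGamma_succ]
  have key : ∑ j ∈ range (n + 1), (n.choose j : MvPolynomial (Var D) ℚ) *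
      ((-1) ^ j * ((j : MvPolynomial (Var D) ℚ) + 1) ^ n * z) =
      (-1) ^ n * (n.factorial : MvPolynomial (Var D) ℚ) * z := by
    have h := congrArg (algebraMap ℚ (MvPolynomial (Var D) ℚ)) (sum_choose_neg_pow n)
    simp only [map_sum, map_mul, map_pow, map_neg, map_one, map_add, map_natCast] at h
    rw [← h, Finset.sum_mul]
    exact Finset.sum_congr rfl fun j _ => by ring
  rw [← key, Finset.sum_range_succ, Nat.choose_self, Nat.cast_one, one_mul, add_comm _ ((-1) ^ n * _ * z),
    add_sub_add_comm, ← Finset.sum_sub_distrib]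
  refine add_mem (hlam n) (Ideal.sum_mem _ fun j _ => ?_)
  rw [← mul_sub]
  exact Ideal.mul_mem_left _ _ (hlam j)

theorem constantCoeff_incQ (z : MvPolynomial (Var D) ℤ) :
    constantCoeff (incQ D z) = ((constantCoeff z : ℤ) : ℚ) := by simp [incQ, constantCoeff_map]

theorem incQ_mem_iff (n : ℕ) (z : MvPolynomial (Var D) ℤ) : incQ D z ∈ Wq n ↔ z ∈ Wz n :=
  map_mem_WI_iff Int.cast_injective _ _ _

theorem gammaZ_mem {z : MvPolynomial (Var D) ℤ} (hz : constantCoeff z = 0) (i : ℕ) :
    gamma i z ∈ Wz i := by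
  rw [← incQ_mem_iff, incQ_gamma]
  exact gammaQ_mem (by rw [constantCoeff_incQ, hz, Int.cast_zero]) i

theorem gammaZ_mem_of {z : MvPolynomial (Var D) ℤ} {w : ℕ} (hz : z ∈ Wz w) (i : ℕ) (hi : 1 ≤ i) :
    gamma i z ∈ Wz w := by
  rw [← incQ_mem_iff, incQ_gamma]
  exact gammaQ_mem_of ((incQ_mem_iff _ _).mpr hz) i hi

theorem gammaZ_congr {m : ℕ} (hm : 1 ≤ m) {z : MvPolynomial (Var D) ℤ} (hz : z ∈ Wz m) :
    gamma m z - (-1) ^ (m - 1) * ((m - 1).factorial : MvPolynomial (Var D) ℤ) * z ∈ Wz (m + 1) := by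
  rw [← incQ_mem_iff, map_sub, incQ_gamma, map_mul, map_mul, map_pow, map_neg, map_one, map_natCast]
  exact gammaQ_congr hm ((incQ_mem_iff _ _).mpr hz)

end Filt

section Top

variable {ι : Type} {D : ι → ℕ∞} {R : Type*} [CommRing R]

open Classical in
/-- Setting the variable `v` to zero. -/
noncomputable def chi (R : Type*) [CommRing R] (v : Var D) :
    MvPolynomial (Var D) R →ₐ[R] MvPolynomial (Var D) R :=
  aeval fun u => if u = v then 0 else X u

theorem X_dvd_iff_chi (v : Var D) (p : MvPolynomial (Var D) R) :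
    (X v : MvPolynomial (Var D) R) ∣ p ↔ chi R v p = 0 := by
  classical
  constructor
  · rintro ⟨q, rfl⟩
    rw [map_mul, chi, aeval_X, if_pos rfl, zero_mul]
  · intro h
    have key : ∀ q : MvPolynomial (Var D) R, (X v : MvPolynomial (Var D) R) ∣ q - chi R v q := by
      intro q
      induction q using MvPolynomial.induction_on with
      | C a => simp [chi]
      | add p q hp hq =>
        rw [map_add, add_sub_add_comm]; exact dvd_add hp hq
      | mul_X p u hp =>
        rw [map_mul, chi, aeval_X]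
        split_ifs with hu
        · subst hu; rw [mul_zero, sub_zero]; exact dvd_mul_left _ _
        · rw [← sub_mul]; exact dvd_mul_of_dvd_left hp _
    have := key p
    rwa [h, sub_zero] at this

theorem chi_map {S : Type*} [CommRing S] (f : R →+* S) (v : Var D) (p : MvPolynomial (Var D) R) :
    chi S v (MvPolynomial.map f p) = MvPolynomial.map f (chi R v p) := by
  classical
  induction p using MvPolynomial.induction_on with
  | C a => simp [chi]
  | add p q hp hq => simp only [map_add, hp, hq]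
  | mul_X p u hp =>
    simp only [map_mul, MvPolynomial.map_X, hp]
    congr 1
    simp only [chi, aeval_X]
    split_ifs <;> simp

theorem X_dvd_psi {v : Var D} (hv : ¬ ((v.j + 1 : ℕ) : ℕ∞) < D v.s) {z : MvPolynomial (Var D) ℚ}
    (hz : X v ∣ z) (k : ℕ) : X v ∣ psi D k z := by
  obtain ⟨q, rfl⟩ := hz
  rw [map_mul]
  refine dvd_mul_of_dvd_left ?_ _
  rw [X_dvd_iff_chi, psi, aeval_X, map_tr _ k (c_zero ℚ v.s)]
  refine tr_eq_zero k v.j (by simp [c_zero]) (fun n hn => ?_) _ (by omega)
  rcases Nat.lt_or_ge (v.j + 1) n with h | h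
  · obtain ⟨n, rfl⟩ : ∃ i, n = i + 1 := ⟨n - 1, by omega⟩
    rw [c_eq_zero ℚ v.s n (fun h' => hv (lt_of_le_of_lt (by exact_mod_cast (by omega : v.j + 1 ≤ n)) h')),
      map_zero]
  · rw [show n = v.j + 1 by omega, c_var ℚ v, chi, aeval_X, if_pos rfl]

/-- `γ`-operations preserve divisibility by the top variable of a generator. -/
theorem X_dvd_gammaZ {v : Var D} (hv : ¬ ((v.j + 1 : ℕ) : ℕ∞) < D v.s) {z : MvPolynomial (Var D) ℤ}
    (hz : X v ∣ z) {i : ℕ} (hi : 1 ≤ i) : X v ∣ gamma i z := by
  have hzQ : (X v : MvPolynomial (Var D) ℚ) ∣ incQ D z := by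
    have := _root_.map_dvd (incQ D) hz
    rwa [incQ, MvPolynomial.map_X] at this
  rw [X_dvd_iff_chi]
  refine map_injective (Int.castRingHom ℚ) Int.cast_injective ?_
  rw [map_zero, ← chi_map, ← X_dvd_iff_chi]
  show X v ∣ incQ D (gamma i z)
  rw [incQ_gamma, ← Ideal.mem_span_singleton]
  refine gamma_mem_of_lam (fun n hn => ?_) i hi
  obtain ⟨n, rfl⟩ : ∃ t, n = t + 1 := ⟨n - 1, by omega⟩
  exact fromG_mem_ideal (fun j _ => Ideal.mem_span_singleton.mpr (X_dvd_psi hv hzQ j)) n

theorem WI_of_X_mul {w : Var D → ℕ} {v : Var D} {q : MvPolynomial (Var D) R} {n : ℕ}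
    (h : X v * q ∈ WI R w n) : q ∈ WI R w (n - w v) := fun d hd => by
  have := h (Finsupp.single v 1 + d) (by rwa [coeff_X_mul])
  rw [map_add, Finsupp.weight_single, one_smul] at this
  omega

end Top

end Groth.Agent.Lam38
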